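import Cfsg.Agent.SUSixFourThree.Cases
import Cfsg.Agent.U33Degrees.Transfer
import Mathlib.GroupTheory.Sylow

/-!
# Three classes of triple covers of PSU(4,3) in SU(6,2)
-/

set_option autoImplicit false
set_option maxRecDepth 100000
set_option linter.style.haveILetI false

namespace CfsgLib.SUSixFourThree

open Matrix CfsgLib.Unitary CfsgLib.CentralCert CfsgLib.ExtCert
open CfsgLib.CentralCert.UFourThree (c4)
open CfsgLib.Coset.G24 (F4)

attribute [local irreducible] CfsgLib.CentralCert.FieldCode.mcode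
open scoped Pointwise

/-- The first of the three quotients. -/
abbrev Q0 : Type := ↥(Kc 0) ⧸ Subgroup.center ↥(Kc 0)
/-- The simple quotient. -/
abbrev P43 : Type := CfsgLib.CentralCert.UFourThree.P

theorem card_U : Nat.card U = 27590492160 := by
  have h := card_PSU_mul (F := F4) hF (n := 6) (by norm_num)
  rw [card_GU hF] at h
  have e : 2 ^ (6 * (6 - 1) / 2) * ∏ i ∈ Finset.range 6,
      (if Even i then 2 ^ (i + 1) + 1 else 2 ^ (i + 1) - 1) = 9 * 9196830720 := by decide +kernel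
  rw [e, show Nat.gcd 6 (2 + 1) = 3 by decide] at h
  rw [Subgroup.card_eq_card_quotient_mul_card_subgroup (Subgroup.center U), card_center]
  show Nat.card (Cfsg.PSU 6 F4 2) * 3 = _
  omega

theorem card_comap_surj {G H : Type*} [Group G] [Finite G] [Group H] {f : G →* H}
    (hf : Function.Surjective f) (L : Subgroup H) : Nat.card (L.comap f) = Nat.card L * Nat.card f.ker := by
  have h2 := (L.comap f).card_mul_index
  rw [L.index_comap_of_surjective hf, Subgroup.card_eq_card_quotient_mul_card_subgroup f.ker,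
    Nat.card_congr (QuotientGroup.quotientKerEquivOfSurjective f hf).toEquiv, ← L.card_mul_index] at h2
  haveI : Finite H := Finite.of_surjective f hf
  refine Nat.eq_of_mul_eq_mul_right (Nat.pos_of_ne_zero (Subgroup.index_ne_zero_of_finite (H := L))) ?_
  linarith

theorem center_le_Kc (i : Fin 3) : Subgroup.center U ≤ Kc i :=
  center_le_DU.trans (DU_le_MM.trans (MM_le_Kc i))

theorem mem_center_Kc {i : Fin 3} {s : Kc i} : s ∈ Subgroup.center ↥(Kc i) ↔ (s : U) ∈ Subgroup.center U := by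
  rw [← center_map (MM_le_Kc i)]
  exact (Subgroup.mem_map_iff_mem Subtype.val_injective).symm

/-- A subgroup with a map to the first of the three quotients. -/
structure Rec where
  K : Subgroup U
  η : K →* Q0
  surj : Function.Surjective η
  ker : η.ker = (Subgroup.center U).subgroupOf K
  zle : Subgroup.center U ≤ K

namespace Rec

variable (R : Rec)

theorem card_ker : Nat.card R.η.ker = 3 := by
  rw [R.ker, Nat.card_congr (Subgroup.subgroupOfEquivOfLe R.zle).toEquiv, card_center]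

theorem card_eq : Nat.card R.K = 9797760 := by
  rw [Subgroup.card_eq_card_quotient_mul_card_subgroup R.η.ker,
    Nat.card_congr (QuotientGroup.quotientKerEquivOfSurjective R.η R.surj).toEquiv, R.card_ker]
  obtain ⟨e⟩ := quot_iso 0
  rw [Nat.card_congr e.toEquiv, CfsgLib.CentralCert.UFourThree.card_P]

/-- The preimage of a subgroup. -/
def pre (S : Subgroup U) : Subgroup U :=
  (((S.subgroupOf (Kc 0)).map (QuotientGroup.mk' (Subgroup.center ↥(Kc 0)))).comap R.η).map R.K.subtype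

theorem mem_pre {S : Subgroup U} {x : U} :
    x ∈ R.pre S ↔ ∃ h : x ∈ R.K, ∃ s : Kc 0, (s : U) ∈ S ∧ (QuotientGroup.mk s : Q0) = R.η ⟨x, h⟩ := by
  constructor
  · rintro ⟨y, ⟨s, hs, e⟩, rfl⟩; exact ⟨y.2, s, hs, e⟩
  · rintro ⟨h, s, hs, e⟩; exact ⟨⟨x, h⟩, ⟨s, hs, e⟩, rfl⟩

theorem pre_le (S : Subgroup U) : R.pre S ≤ R.K := fun _ hx => (R.mem_pre.mp hx).1

theorem pre_mono {S T : Subgroup U} (h : S ≤ T) : R.pre S ≤ R.pre T := fun x hx => by
  obtain ⟨hk, s, hs, e⟩ := R.mem_pre.mp hx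
  exact R.mem_pre.mpr ⟨hk, s, h hs, e⟩

theorem card_pre {S : Subgroup U} (hZ : Subgroup.center U ≤ S) (hS : S ≤ Kc 0) :
    Nat.card (R.pre S) = Nat.card S := by
  rw [pre, Subgroup.card_subtype, card_comap_surj R.surj, R.card_ker]
  set q := QuotientGroup.mk' (Subgroup.center ↥(Kc 0))
  have h1 : ((S.subgroupOf (Kc 0)).map q).comap q = S.subgroupOf (Kc 0) :=
    Subgroup.comap_map_eq_self (by
      rw [QuotientGroup.ker_mk']
      exact fun s hs => hZ (mem_center_Kc.mp hs))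
  have h2 := card_comap_surj (QuotientGroup.mk'_surjective (Subgroup.center ↥(Kc 0))) ((S.subgroupOf (Kc 0)).map q)
  rw [h1, QuotientGroup.ker_mk', card_center_Kc, Nat.card_congr (Subgroup.subgroupOfEquivOfLe hS).toEquiv] at h2
  exact h2.symm

theorem center_le_pre (S : Subgroup U) : Subgroup.center U ≤ R.pre S := fun z hz =>
  R.mem_pre.mpr ⟨R.zle hz, 1, one_mem _, by
    rw [QuotientGroup.mk_one]
    exact (MonoidHom.mem_ker.mp (show (⟨z, R.zle hz⟩ : R.K) ∈ R.η.ker by rw [R.ker]; exact hz)).symm⟩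

theorem eta_eq_iff {x y : R.K} : R.η x = R.η y ↔ (x : U) * (y : U)⁻¹ ∈ Subgroup.center U := by
  rw [← mul_inv_eq_one, ← map_inv, ← map_mul, ← MonoidHom.mem_ker, R.ker]
  rfl

theorem commZ {x y : U} (hx : x ∈ R.K) (hy : y ∈ R.K) {s t : Kc 0}
    (ex : (QuotientGroup.mk s : Q0) = R.η ⟨x, hx⟩) (ey : (QuotientGroup.mk t : Q0) = R.η ⟨y, hy⟩)
    (h : CommZ s.1 t.1) : CommZ x y := by
  obtain ⟨z, hz, e⟩ := h
  have e2 : R.η (⟨x, hx⟩ * ⟨y, hy⟩) = R.η (⟨y, hy⟩ * ⟨x, hx⟩) := by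
    rw [map_mul, map_mul, ← ex, ← ey, ← QuotientGroup.mk_mul, ← QuotientGroup.mk_mul, QuotientGroup.eq,
      mem_center_Kc]
    show (s.1 * t.1)⁻¹ * (t.1 * s.1) ∈ Subgroup.center U
    rw [e, _root_.mul_inv_rev, mul_assoc, ← Subgroup.mem_center_iff.mp (inv_mem hz) (t.1 * s.1),
      inv_mul_cancel_left]
    exact inv_mem hz
  exact ⟨_, R.eta_eq_iff.mp e2, (inv_mul_cancel_right _ _).symm⟩

/-- A conjugate. -/
noncomputable def conj (g : U) : Rec where
  K := R.K.map (MulAut.conj g).toMonoidHom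
  η := R.η.comp (R.K.equivMapOfInjective _ (MulAut.conj g).injective).symm.toMonoidHom
  surj := Function.Surjective.comp (g := ⇑R.η) R.surj
    (f := ⇑(R.K.equivMapOfInjective _ (MulAut.conj g).injective).symm) (MulEquiv.surjective _)
  ker := by
    ext x
    obtain ⟨y, rfl⟩ := (R.K.equivMapOfInjective _ (MulAut.conj g).injective).surjective x
    rw [MonoidHom.mem_ker, MonoidHom.comp_apply, MulEquiv.coe_toMonoidHom, MulEquiv.symm_apply_apply,
      ← MonoidHom.mem_ker, R.ker, Subgroup.mem_subgroupOf, Subgroup.mem_subgroupOf]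
    show (y : U) ∈ Subgroup.center U ↔ g * y.1 * g⁻¹ ∈ Subgroup.center U
    refine ⟨fun h => Subgroup.Normal.conj_mem inferInstance _ h g, fun h => ?_⟩
    have := Subgroup.Normal.conj_mem inferInstance _ h g⁻¹
    simpa [mul_assoc] using this
  zle := fun z hz => ⟨z, R.zle hz, by
    show g * z * g⁻¹ = z
    rw [Subgroup.mem_center_iff.mp hz g, mul_inv_cancel_right]⟩

theorem pre_conj (g : U) (S : Subgroup U) :
    (R.pre S).map (MulAut.conj g).toMonoidHom ≤ (R.conj g).pre S := by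
  rintro _ ⟨x, hx, rfl⟩
  obtain ⟨hk, s, hs, e⟩ := R.mem_pre.mp hx
  refine (R.conj g).mem_pre.mpr ⟨⟨x, hk, rfl⟩, s, hs, ?_⟩
  rw [e]
  refine congrArg R.η ?_
  exact ((R.K.equivMapOfInjective _ (MulAut.conj g).injective).symm_apply_apply ⟨x, hk⟩).symm

end Rec

theorem card_DU' : Nat.card DU = 3 ^ 5 := card_DU.trans (by norm_num)

theorem diag_comm {a b : U} (ha : a ∈ DU) (hb : b ∈ DU) : CommZ a b := by
  refine ⟨1, one_mem _, ?_⟩
  rw [one_mul]
  refine mat_inj ?_
  rw [mat_mul, mat_mul, (mem_DU.mp ha).eq, (mem_DU.mp hb).eq, monM_mul, monM_mul]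
  simp [mul_comm]

instance : Fact (Nat.Prime 3) := ⟨Nat.prime_three⟩

/-- The Sylow subgroup as a Sylow subgroup. -/
noncomputable def PtSyl : Sylow 3 U := Sylow.ofCard Pt (by
  rw [card_Pt, card_U, show (27590492160 : ℕ) = 3 ^ 7 * 12615680 by norm_num]
  congr 1
  rw [Nat.factorization_mul (by norm_num) (by norm_num), Finsupp.add_apply, Nat.factorization_pow,
    Finsupp.smul_apply, Nat.Prime.factorization_self Nat.prime_three,
    Nat.factorization_eq_zero_of_not_dvd (by norm_num)]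
  rfl)

theorem exists_conj_eq_Pt {B : Subgroup U} (hB : Nat.card B = 3 ^ 7) :
    ∃ g : U, B.map (MulAut.conj g).toMonoidHom = Pt := by
  obtain ⟨Q, hQ⟩ := (IsPGroup.of_card hB).exists_le_sylow
  obtain ⟨g, hg⟩ := MulAction.exists_smul_eq U Q PtSyl
  refine ⟨g, Subgroup.eq_of_le_of_card_ge ?_ ?_⟩
  · have e : ((g • Q : Sylow 3 U) : Subgroup U) = Pt := by rw [hg]; rfl
    rw [← e, Sylow.coe_subgroup_smul]
    rintro _ ⟨x, hx, rfl⟩
    exact Subgroup.smul_mem_pointwise_smul x (MulAut.conj g) _ (hQ hx)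
  · rw [card_Pt, Subgroup.card_map_of_injective (MulAut.conj g).injective, hB]

theorem z0_comm : ∀ a b : Fin 3, ∀ i : Fin 6,
    ((s1 ^ a.val * s2 ^ b.val)⁻¹ i).val < 3 ↔ i.val < 3 := by decide +kernel

theorem Pt_z0 {p : U} (hp : p ∈ Pt) : CommZ p z0 := by
  obtain ⟨σ, hσ, hm⟩ := mem_monOver.mp hp
  obtain ⟨h1, h2⟩ := mem_P9.mp hσ
  obtain ⟨-, a, b, rfl⟩ := p9_list σ h1 h2
  refine ⟨1, one_mem _, mat_inj ?_⟩
  rw [one_mul, mat_mul, mat_mul, hm.eq, z0, monU, mat_mkU, monM_mul, monM_mul, mul_one, one_mul]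
  refine congrArg _ (funext fun i => ?_)
  simp only [z0_comm a b i, inv_one, Equiv.Perm.one_apply]
  exact mul_comm _ _

theorem r1_z0 : c4.mcode (mat (r1 * z0)) = c4.mcode (mat (z0 * r1)) := by decide +kernel

theorem z0_not_scalar : mat z0 0 0 ≠ mat z0 3 3 := by decide +kernel

theorem classify_normal (R : Rec) (hPt : R.pre Pt = Pt) : ∃ i, R.K = Kc i := by
  have hMK : MM ≤ Kc 0 := MM_le_Kc 0
  have hD : R.pre DU = DU := by
    refine eq_DU _ ((R.pre_mono DU_le_Pt).trans hPt.le)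
      ((R.card_pre center_le_DU (DU_le_MM.trans hMK)).trans card_DU) ?_
    intro a ha b hb
    obtain ⟨hka, s, hs, es⟩ := R.mem_pre.mp ha
    obtain ⟨hkb, t, ht, et⟩ := R.mem_pre.mp hb
    exact R.commZ hka hkb es et (diag_comm hs ht)
  have hnorm : ∀ g ∈ MM, ∀ d ∈ DU, g⁻¹ * d * g ∈ DU := fun g hg d hd => by
    obtain ⟨σ, -, hm⟩ := mem_monOver.mp hg
    have := (hm.inv.mul (mem_DU.mp hd)).mul hm
    rw [mul_one, inv_mul_cancel] at this
    exact mem_DU.mpr this
  have hMS : R.pre MM ≤ MonS := fun x hx => mem_MonS_of_normalizes fun d hd => by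
    obtain ⟨hk, s, hs, es⟩ := R.mem_pre.mp hx
    rw [← hD] at hd ⊢
    obtain ⟨hkd, t, ht, et⟩ := R.mem_pre.mp hd
    refine R.mem_pre.mpr ⟨mul_mem (mul_mem (inv_mem hk) hkd) hk, s⁻¹ * t * s, hnorm _ hs _ ht, ?_⟩
    rw [QuotientGroup.mk_mul, QuotientGroup.mk_mul, QuotientGroup.mk_inv, es, et, ← map_inv, ← map_mul, ← map_mul]
    rfl
  have hM : R.pre MM = MM := by
    have hcM : Nat.card (R.pre MM) = 87480 :=
      (R.card_pre (center_le_DU.trans DU_le_MM) hMK).trans card_MM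
    refine (Subgroup.eq_of_le_of_card_ge ?_ (le_of_eq (hcM.trans card_MM.symm))).symm
    conv_lhs => rw [MM_eq, MG]
    rw [Subgroup.closure_le]
    have hidx : ((R.pre MM).subgroupOf MonS).index = 2 := by
      have := ((R.pre MM).subgroupOf MonS).card_mul_index
      rw [Nat.card_congr (Subgroup.subgroupOfEquivOfLe hMS).toEquiv, hcM, card_MonS] at this
      omega
    have key : ∀ k : Fin 3, xU k.val ^ (if k.val = 2 then 6 else 4) = xU k.val → xU k.val ∈ MonS →
        xU k.val ∈ R.pre MM := fun k he hk => by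
      have h2 := Subgroup.sq_mem_of_index_two hidx ⟨xU k.val, hk⟩
      rw [Subgroup.mem_subgroupOf] at h2
      have h3 := pow_mem h2 (if k.val = 2 then 3 else 2)
      rw [Subgroup.coe_pow, ← pow_mul] at h3
      rw [← he]
      fin_cases k <;> simpa using h3
    have hpow : ∀ k : Fin 3, code (List.replicate (if k.val = 2 then 6 else 4) k.val) = code [k.val] := by
      decide +kernel
    have hev : ∀ k : Fin 3, xU k.val ^ (if k.val = 2 then 6 else 4) = xU k.val := fun k => by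
      have := eq_of_code (hpow k)
      simpa [ev] using this
    have hmem : ∀ k : Fin 3, xU k.val ∈ MonS := fun k => hMS' (MG_of_lt k.2)
    rintro s (rfl | rfl | rfl)
    exacts [key 0 (hev 0) (hmem 0), key 1 (hev 1) (hmem 1), key 2 (hev 2) (hmem 2)]
  have hz0D : z0 ∈ DU := mem_DU.mpr (monU_isMon _ _ _)
  obtain ⟨⟨z, hzK⟩, hz⟩ := R.surj (QuotientGroup.mk (⟨z0, hMK (DU_le_MM hz0D)⟩ : Kc 0))
  have hzD : z ∈ DU := hD ▸ R.mem_pre.mpr ⟨hzK, _, hz0D, hz.symm⟩
  obtain ⟨a, b, ha, hb, hzm⟩ := shape_of_fixed hzD fun p hp => by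
    rw [← hPt] at hp
    obtain ⟨hkp, s, hs, es⟩ := R.mem_pre.mp hp
    exact R.commZ hkp hzK es hz.symm (Pt_z0 hs)
  have hab : a ≠ b := by
    rintro rfl
    have hc : z ∈ Subgroup.center U := (mem_center_SU_iff hF (by norm_num)).mpr ⟨a, by
      show mat z = _
      rw [hzm]
      simp [Matrix.smul_one_eq_diagonal]⟩
    have h1 : R.η ⟨z, hzK⟩ = 1 := MonoidHom.mem_ker.mp (by rw [R.ker]; exact hc)
    rw [hz, QuotientGroup.eq_one_iff, mem_center_Kc] at h1
    obtain ⟨c, hc'⟩ := (mem_center_SU_iff hF (by norm_num)).mp h1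
    refine z0_not_scalar ?_
    rw [show mat z0 = c • 1 from hc']
    simp
  have hr1 : r1 ∈ Kc 0 := cj_zero r1 ▸ Subgroup.subset_closure (Or.inr rfl)
  obtain ⟨⟨g, hgK⟩, hg⟩ := R.surj (QuotientGroup.mk (⟨r1, hr1⟩ : Kc 0))
  obtain ⟨c, hc⟩ := (R.commZ hgK hzK hg.symm hz.symm
    ⟨1, one_mem _, by rw [one_mul]; exact mat_inj (c4.mcode_injective r1_z0)⟩).mat_eq
  have hent : ∀ i j, mat g i j * (if j.val < 3 then a else b) = c * ((if i.val < 3 then a else b) * mat g i j) :=
    fun i j => by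
      have := congrFun (congrFun hc i) j
      rwa [hzm, Matrix.smul_apply, Matrix.mul_diagonal, Matrix.diagonal_mul, smul_eq_mul] at this
  have hblk : ∀ i j : Fin 6, (i.val < 3 ↔ ¬ j.val < 3) → mat g i j = 0 := by
    have cases4 : ∀ a b c x : F4, a ≠ 0 → b ≠ 0 → a ≠ b →
        (x * a = c * (a * x) → x = 0 ∨ c = 1) ∧ (x * b = c * (b * x) → x = 0 ∨ c = 1) ∧
        (c = 1 → (x * b = c * (a * x) → x = 0) ∧ (x * a = c * (b * x) → x = 0)) ∧
        (x * b = c * (a * x) → x = 0 ∨ c * a = b) ∧ (x * a = c * (b * x) → x = 0 ∨ c * b = a) ∧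
        (c ≠ 1 → ¬ (c * a = b ∧ c * b = a)) := by decide +kernel
    have hc1 : c = 1 := by
      by_contra hne
      obtain ⟨j0, hj0⟩ := exists_in_row g 0
      obtain ⟨j3, hj3⟩ := exists_in_row g 3
      have e0 := hent 0 j0
      have e3 := hent 3 j3
      simp only [show ((0 : Fin 6).val < 3) from by decide, show ¬ ((3 : Fin 6).val < 3) from by decide,
        if_true, if_false] at e0 e3
      obtain ⟨f1, -, -, f4, -, f6⟩ := cases4 a b c (mat g 0 j0) ha hb hab
      obtain ⟨-, g2, -, -, g5, -⟩ := cases4 a b c (mat g 3 j3) ha hb hab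
      have k1 : c * a = b := by
        split_ifs at e0
        · exact absurd ((f1 e0).resolve_left hj0) hne
        · exact (f4 e0).resolve_left hj0
      have k2 : c * b = a := by
        split_ifs at e3
        · exact (g5 e3).resolve_left hj3
        · exact absurd ((g2 e3).resolve_left hj3) hne
      exact f6 hne ⟨k1, k2⟩
    intro i j hij
    have e := hent i j
    obtain ⟨-, -, f3, -, -, -⟩ := cases4 a b c (mat g i j) ha hb hab
    by_cases hi : i.val < 3
    · rw [if_pos hi, if_neg (hij.mp hi)] at e; exact (f3 hc1).1 e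
    · have hj : j.val < 3 := by by_contra hj; exact hi (hij.mpr hj)
      rw [if_neg hi, if_pos hj] at e; exact (f3 hc1).2 e
  have hMR : MM ≤ R.K := hM ▸ R.pre_le MM
  let H := Subgroup.closure ((MM : Set U) ∪ {g})
  have hMH : MM ≤ H := fun x hx => Subgroup.subset_closure (Or.inl hx)
  have hgen : R.K ≤ H := by
    let S : Subgroup Q0 := (H.subgroupOf R.K).map R.η
    have htop : ∀ k : Kc 0, (QuotientGroup.mk k : Q0) ∈ S := by
      rintro ⟨k, hk⟩
      induction hk using Subgroup.closure_induction with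
      | mem s hs =>
        rcases hs with hs | rfl
        · have hs' : s ∈ MM := MM_eq ▸ Subgroup.subset_closure hs
          obtain ⟨⟨y, hy⟩, ey⟩ := R.surj (QuotientGroup.mk (⟨s, hMK hs'⟩ : Kc 0))
          exact ⟨⟨y, hy⟩, hMH (hM ▸ R.mem_pre.mpr ⟨hy, _, hs', ey.symm⟩), ey⟩
        · refine ⟨⟨g, hgK⟩, Subgroup.subset_closure (Or.inr rfl), ?_⟩
          rw [hg]; congr 1; exact Subtype.ext (cj_zero r1).symm
      | one => exact one_mem S
      | mul x y _ _ hx hy => exact mul_mem hx hy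
      | inv x _ hx => exact inv_mem hx
    intro x hx
    obtain ⟨k, hk⟩ := QuotientGroup.mk_surjective (R.η ⟨x, hx⟩)
    obtain ⟨y, hy, ey⟩ := htop k
    have hxy : x * (y : U)⁻¹ ∈ Subgroup.center U := R.eta_eq_iff.mp (hk.symm.trans ey.symm)
    have := mul_mem (hMH (DU_le_MM (center_le_DU hxy))) (Subgroup.mem_subgroupOf.mp hy)
    rwa [inv_mul_cancel_right] at this
  have hperf : R.K ≤ ⁅R.K, R.K⁆ ⊔ Subgroup.center U := by
    obtain ⟨e⟩ := quot_iso 0
    haveI : IsSimpleGroup P43 := isSimpleGroup_PSU CfsgLib.J2.Perm.hF (by norm_num) (by norm_num)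
    haveI : Nontrivial Q0 := e.toEquiv.nontrivial
    haveI : IsSimpleGroup Q0 := IsSimpleGroup.isSimpleGroup_of_surjective e.symm.toMonoidHom e.symm.surjective
    have hne : commutator Q0 ≠ ⊥ := fun h => by
      have hcomm : ∀ p q : Q0, p * q = q * p := fun p q => commutatorElement_eq_one_iff_mul_comm.mp
        (Subgroup.mem_bot.mp (h ▸ Subgroup.commutator_mem_commutator (Subgroup.mem_top p) (Subgroup.mem_top q)))
      have h2 := QuotientGroup.eq.mp (hcomm (QuotientGroup.mk (⟨r1, hr1⟩ : Kc 0))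
        (QuotientGroup.mk (⟨xU 1, Kc_of (Or.inl (by norm_num))⟩ : Kc 0)))
      rw [mem_center_Kc] at h2
      obtain ⟨d, hd⟩ := (mem_center_SU_iff hF (by norm_num)).mp h2
      have hd' := congrFun (congrFun (show mat ((r1 * xU 1)⁻¹ * (xU 1 * r1)) = d • 1 from hd) 0) 1
      simp [Matrix.one_apply] at hd'
      exact comm_not_scalar hd'
    have htop : commutator Q0 = ⊤ := ((inferInstance : (commutator Q0).Normal).eq_bot_or_eq_top).resolve_left hne
    intro x hx
    have h1 : R.η ⟨x, hx⟩ ∈ (commutator R.K).map R.η := by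
      rw [commutator_def, Subgroup.map_commutator, Subgroup.map_top_of_surjective _ R.surj, ← commutator_def, htop]
      trivial
    obtain ⟨y, hy, ey⟩ := h1
    have hy' : (y : U) ∈ ⁅R.K, R.K⁆ := by
      have := Subgroup.mem_map_of_mem R.K.subtype hy
      rwa [commutator_def, Subgroup.map_commutator, ← MonoidHom.range_eq_map, Subgroup.range_subtype] at this
    have hxy := R.eta_eq_iff.mp ey.symm
    have := mul_mem (Subgroup.mem_sup_right hxy) (Subgroup.mem_sup_left (T := Subgroup.center U) hy')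
    rwa [inv_mul_cancel_right] at this
  exact classify_gen R.K R.card_eq g hMR hgen hgK hblk hperf
where
  hMS' {x : U} (hx : x ∈ MG) : x ∈ MonS := monOver_top ▸ monOver_mono le_top (MG_le_MM hx)
  comm_not_scalar : ¬ mat ((r1 * xU 1)⁻¹ * (xU 1 * r1)) 0 1 = 0 := by decide +kernel

theorem classify (R : Rec) : ∃ g : U, ∃ i, R.K.map (MulAut.conj g).toMonoidHom = Kc i := by
  have hcard : Nat.card (R.pre Pt) = 3 ^ 7 :=
    (R.card_pre (center_le_DU.trans DU_le_Pt) (Pt_le_MM.trans (MM_le_Kc 0))).trans card_Pt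
  obtain ⟨g, hg⟩ := exists_conj_eq_Pt hcard
  refine ⟨g, classify_normal (R.conj g) ?_⟩
  exact (Subgroup.eq_of_le_of_card_ge (hg.symm.le.trans (R.pre_conj g Pt))
    (le_of_eq (((R.conj g).card_pre (center_le_DU.trans DU_le_Pt) (Pt_le_MM.trans (MM_le_Kc 0))).trans rfl))).symm

theorem exists_rec (K : Subgroup U) (hc : Nat.card (Subgroup.center ↥K) = 3)
    (e : ↥K ⧸ Subgroup.center ↥K ≃* P43) : ∃ R : Rec, R.K = K := by
  have hK : Nat.card K = 9797760 := by
    rw [Subgroup.card_eq_card_quotient_mul_card_subgroup (Subgroup.center ↥K), Nat.card_congr e.toEquiv, hc,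
      CfsgLib.CentralCert.UFourThree.card_P]
  have hZ : Subgroup.center U ≤ K := by
    by_contra hZ
    let f : K × Subgroup.center U →* U :=
      MonoidHom.mk' (fun p => p.1.1 * p.2.1) fun p q => by
        show p.1.1 * q.1.1 * (p.2.1 * q.2.1) = p.1.1 * p.2.1 * (q.1.1 * q.2.1)
        rw [mul_assoc p.1.1, ← mul_assoc q.1.1, Subgroup.mem_center_iff.mp p.2.2 q.1.1]
        simp [mul_assoc]
    have hinj : Function.Injective f := by
      rw [injective_iff_map_eq_one]
      rintro ⟨k, z⟩ h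
      have hzk : (z : U) ∈ K := by
        rw [show (z : U) = (k : U)⁻¹ from eq_inv_of_mul_eq_one_right h]; exact inv_mem k.2
      have hlt : K ⊓ Subgroup.center U = ⊥ := by
        rcases (Nat.dvd_prime Nat.prime_three).mp
          (card_center ▸ Subgroup.card_dvd_of_le (inf_le_right : K ⊓ Subgroup.center U ≤ _)) with h1 | h1
        · exact Subgroup.eq_bot_of_card_eq _ h1
        · exact absurd (inf_eq_right.mp (Subgroup.eq_of_le_of_card_ge inf_le_right
            (le_of_eq (card_center.trans h1.symm)))) hZ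
      have hz1 : (z : U) = 1 := Subgroup.mem_bot.mp (hlt ▸ Subgroup.mem_inf.mpr ⟨hzk, z.2⟩)
      refine Prod.ext (Subtype.ext ?_) (Subtype.ext hz1)
      have h' : (k : U) * (z : U) = 1 := h
      rwa [hz1, mul_one] at h'
    have := Subgroup.card_dvd_of_injective f hinj
    rw [Nat.card_prod, hK, card_center, card_U] at this
    norm_num at this
  obtain ⟨e0⟩ := quot_iso 0
  refine ⟨⟨K, (e.trans e0.symm).toMonoidHom.comp (QuotientGroup.mk' _),
    Function.Surjective.comp (g := ⇑(e.trans e0.symm)) (MulEquiv.surjective _) (QuotientGroup.mk'_surjective _),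
    ?_, hZ⟩, rfl⟩
  have hk : (((e.trans e0.symm).toMonoidHom.comp (QuotientGroup.mk' (Subgroup.center ↥K))) : K →* Q0).ker =
      Subgroup.center ↥K := Subgroup.ext fun x => by
    rw [MonoidHom.mem_ker, MonoidHom.comp_apply, MulEquiv.coe_toMonoidHom, MulEquiv.map_eq_one_iff]
    exact QuotientGroup.eq_one_iff x
  refine hk.trans ?_
  refine (Subgroup.eq_of_le_of_card_ge (fun x hx => Subgroup.mem_center_iff.mpr fun y => Subtype.ext
    (Subgroup.mem_center_iff.mp (Subgroup.mem_subgroupOf.mp hx) y.1)) ?_).symm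
  rw [hc, Nat.card_congr (Subgroup.subgroupOfEquivOfLe hZ).toEquiv, card_center]

theorem not_conj {i j : Fin 3} (hij : i < j) (g : U) : (Kc i).map (MulAut.conj g).toMonoidHom ≠ Kc j := by
  intro hg
  have hP : ∀ l, Pt ≤ Kc l := fun l => Pt_le_MM.trans (MM_le_Kc l)
  let B : Subgroup (Kc j) := (Pt.map (MulAut.conj g).toMonoidHom).subgroupOf (Kc j)
  have hBle : Pt.map (MulAut.conj g).toMonoidHom ≤ Kc j := hg ▸ Subgroup.map_mono (hP i)
  have hfac : (Nat.card (Kc j)).factorization 3 = 7 := by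
    rw [card_Kc, show (9797760 : ℕ) = 3 ^ 7 * 4480 by norm_num, Nat.factorization_mul (by norm_num) (by norm_num),
      Finsupp.add_apply, Nat.factorization_pow, Finsupp.smul_apply, Nat.Prime.factorization_self Nat.prime_three,
      Nat.factorization_eq_zero_of_not_dvd (by norm_num)]
    rfl
  have c1 : Nat.card B = 3 ^ (Nat.card (Kc j)).factorization 3 := by
    rw [hfac, Nat.card_congr (Subgroup.subgroupOfEquivOfLe hBle).toEquiv,
      Subgroup.card_map_of_injective (MulAut.conj g).injective, card_Pt]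
  have c2 : Nat.card (Pt.subgroupOf (Kc j)) = 3 ^ (Nat.card (Kc j)).factorization 3 := by
    rw [hfac, Nat.card_congr (Subgroup.subgroupOfEquivOfLe (hP j)).toEquiv, card_Pt]
  obtain ⟨h, hh⟩ := MulAction.exists_smul_eq (Kc j) (Sylow.ofCard B c1) (Sylow.ofCard _ c2)
  have hh' : MulAut.conj h • B = Pt.subgroupOf (Kc j) := congrArg Sylow.toSubgroup hh
  obtain ⟨n, hn⟩ : ∃ n : U, n = h.1 * g := ⟨_, rfl⟩
  have hsub : ∀ x ∈ Pt, n * x * n⁻¹ ∈ Pt := fun x hx => by
    have hxB : (⟨g * x * g⁻¹, hBle ⟨x, hx, rfl⟩⟩ : Kc j) ∈ B := ⟨x, hx, rfl⟩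
    have h2 := Subgroup.smul_mem_pointwise_smul _ (MulAut.conj h) _ hxB
    rw [hh'] at h2
    have h3 : h.1 * (g * x * g⁻¹) * h.1⁻¹ ∈ Pt := h2
    convert h3 using 1
    rw [hn]; group
  have hD : DU.map (MulAut.conj n).toMonoidHom = DU := by
    refine eq_DU _ ?_ ((Subgroup.card_map_of_injective (MulAut.conj n).injective).trans card_DU) ?_
    · rintro _ ⟨x, hx, rfl⟩; exact hsub x (DU_le_Pt hx)
    · rintro _ ⟨a, ha, rfl⟩ _ ⟨b, hb, rfl⟩
      obtain ⟨z, hz, e⟩ := diag_comm ha hb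
      refine ⟨z, hz, ?_⟩
      rw [← map_mul, ← map_mul, e, map_mul]
      show n * z * n⁻¹ * _ = _
      rw [Subgroup.mem_center_iff.mp hz n, mul_inv_cancel_right]
  have hnM : n⁻¹ ∈ MonS := mem_MonS_of_normalizes fun d hd => by
    rw [inv_inv]
    exact hD ▸ Subgroup.mem_map_of_mem (MulAut.conj n).toMonoidHom hd
  have hKn : (Kc i).map (MulAut.conj n).toMonoidHom ≤ Kc i := by
    rintro _ ⟨x, hx, rfl⟩
    have hn' : n ∈ Tc i := by
      have := inv_mem (MonS_le_Tc i hnM); rwa [inv_inv] at this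
    show n * x * n⁻¹ ∈ Kc i
    rcases hn' with h1 | h1
    · exact mul_mem (mul_mem h1 hx) (inv_mem h1)
    · have e : n * x * n⁻¹ = n * tau * (tau * x * tau) * (n * tau)⁻¹ := by
        have h2 : ∀ y : U, tau * (tau * y) = y := fun y => by rw [← mul_assoc, tau_sq, one_mul]
        rw [_root_.mul_inv_rev, inv_eq_of_mul_eq_one_right tau_sq]
        simp only [mul_assoc, h2]
      rw [e]
      exact mul_mem (mul_mem h1 (tau_normalizes_Kc i x hx)) (inv_mem h1)
  have hle : Kc j ≤ (Kc i).map (MulAut.conj n).toMonoidHom := fun y hy => by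
    have hy' : h.1⁻¹ * y * h.1 ∈ Kc j := mul_mem (mul_mem (inv_mem h.2) hy) h.2
    obtain ⟨x, hx, e⟩ : h.1⁻¹ * y * h.1 ∈ (Kc i).map (MulAut.conj g).toMonoidHom :=
      (SetLike.ext_iff.mp hg _).mpr hy'
    refine ⟨x, hx, ?_⟩
    have e' : g * x * g⁻¹ = h.1⁻¹ * y * h.1 := e
    show n * x * n⁻¹ = y
    rw [hn, show h.1 * g * x * (h.1 * g)⁻¹ = h.1 * (g * x * g⁻¹) * h.1⁻¹ by group, e']
    group
  exact Kc_ne hij (Subgroup.eq_of_le_of_card_ge (hle.trans hKn) (by rw [card_Kc, card_Kc])).symm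

theorem main_F4 {P : Type} [Group P] (eP : P43 ≃* P) :
    ∃ K₁ K₂ K₃ : Subgroup U,
      (∀ K ∈ [K₁, K₂, K₃], Nat.card ↥(Subgroup.center ↥K) = 3 ∧ Nonempty (↥K ⧸ Subgroup.center ↥K ≃* P)) ∧
      (¬ ∃ g : U, K₁.map (MulAut.conj g).toMonoidHom = K₂) ∧
      (¬ ∃ g : U, K₁.map (MulAut.conj g).toMonoidHom = K₃) ∧
      (¬ ∃ g : U, K₂.map (MulAut.conj g).toMonoidHom = K₃) ∧
      ∀ K : Subgroup U, Nat.card ↥(Subgroup.center ↥K) = 3 → Nonempty (↥K ⧸ Subgroup.center ↥K ≃* P) →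
        ∃ g : U, K.map (MulAut.conj g).toMonoidHom = K₁ ∨ K.map (MulAut.conj g).toMonoidHom = K₂ ∨
          K.map (MulAut.conj g).toMonoidHom = K₃ := by
  refine ⟨Kc 0, Kc 1, Kc 2, ?_, fun ⟨g, h⟩ => not_conj (by decide) g h, fun ⟨g, h⟩ => not_conj (by decide) g h,
    fun ⟨g, h⟩ => not_conj (by decide) g h, fun K hc hq => ?_⟩
  · intro K hK
    simp only [List.mem_cons, List.not_mem_nil, or_false] at hK
    rcases hK with rfl | rfl | rfl <;>
      exact ⟨card_center_Kc _, ⟨(quot_iso _).some.trans eP⟩⟩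
  · obtain ⟨R, rfl⟩ := exists_rec K hc (hq.some.trans eP.symm)
    obtain ⟨g, i, hi⟩ := classify R
    refine ⟨g, ?_⟩
    fin_cases i
    exacts [Or.inl hi, Or.inr (Or.inl hi), Or.inr (Or.inr hi)]

/-- Transport of the statement along an isomorphism. -/
theorem transfer {V W : Type} [Group V] [Group W] (e : V ≃* W) {P : Type} [Group P]
    (h : ∃ K₁ K₂ K₃ : Subgroup V,
      (∀ K ∈ [K₁, K₂, K₃], Nat.card ↥(Subgroup.center ↥K) = 3 ∧ Nonempty (↥K ⧸ Subgroup.center ↥K ≃* P)) ∧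
      (¬ ∃ g : V, K₁.map (MulAut.conj g).toMonoidHom = K₂) ∧
      (¬ ∃ g : V, K₁.map (MulAut.conj g).toMonoidHom = K₃) ∧
      (¬ ∃ g : V, K₂.map (MulAut.conj g).toMonoidHom = K₃) ∧
      ∀ K : Subgroup V, Nat.card ↥(Subgroup.center ↥K) = 3 → Nonempty (↥K ⧸ Subgroup.center ↥K ≃* P) →
        ∃ g : V, K.map (MulAut.conj g).toMonoidHom = K₁ ∨ K.map (MulAut.conj g).toMonoidHom = K₂ ∨
          K.map (MulAut.conj g).toMonoidHom = K₃) :
    ∃ K₁ K₂ K₃ : Subgroup W,
      (∀ K ∈ [K₁, K₂, K₃], Nat.card ↥(Subgroup.center ↥K) = 3 ∧ Nonempty (↥K ⧸ Subgroup.center ↥K ≃* P)) ∧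
      (¬ ∃ g : W, K₁.map (MulAut.conj g).toMonoidHom = K₂) ∧
      (¬ ∃ g : W, K₁.map (MulAut.conj g).toMonoidHom = K₃) ∧
      (¬ ∃ g : W, K₂.map (MulAut.conj g).toMonoidHom = K₃) ∧
      ∀ K : Subgroup W, Nat.card ↥(Subgroup.center ↥K) = 3 → Nonempty (↥K ⧸ Subgroup.center ↥K ≃* P) →
        ∃ g : W, K.map (MulAut.conj g).toMonoidHom = K₁ ∨ K.map (MulAut.conj g).toMonoidHom = K₂ ∨
          K.map (MulAut.conj g).toMonoidHom = K₃ := by
  obtain ⟨A, B, C, hp, h1, h2, h3, h4⟩ := h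
  have hprop : ∀ (K : Subgroup V), Nat.card ↥(Subgroup.center ↥(K.map e.toMonoidHom)) =
      Nat.card ↥(Subgroup.center ↥K) ∧
      Nonempty ((↥K ⧸ Subgroup.center ↥K) ≃* ↥(K.map e.toMonoidHom) ⧸ Subgroup.center ↥(K.map e.toMonoidHom)) := by
    intro K
    let f := K.equivMapOfInjective e.toMonoidHom e.injective
    have hm : (Subgroup.center ↥K).map f.toMonoidHom = Subgroup.center _ := center_congr f
    exact ⟨by rw [← hm, Subgroup.card_map_of_injective f.injective], ⟨QuotientGroup.congr _ _ f hm⟩⟩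
  have hconj : ∀ (K : Subgroup V) (g : V), (K.map (MulAut.conj g).toMonoidHom).map e.toMonoidHom =
      (K.map e.toMonoidHom).map (MulAut.conj (e g)).toMonoidHom := fun K g => by
    rw [Subgroup.map_map, Subgroup.map_map]
    congr 1
    ext x
    simp
  have hinj := Subgroup.map_injective (f := e.toMonoidHom) e.injective
  have hn : ∀ K L : Subgroup V, (¬ ∃ g : V, K.map (MulAut.conj g).toMonoidHom = L) →
      ¬ ∃ g : W, (K.map e.toMonoidHom).map (MulAut.conj g).toMonoidHom = L.map e.toMonoidHom := by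
    rintro K L hK ⟨g, hg⟩
    obtain ⟨g, rfl⟩ := e.surjective g
    exact hK ⟨g, hinj ((hconj K g).trans hg)⟩
  refine ⟨A.map e.toMonoidHom, B.map e.toMonoidHom, C.map e.toMonoidHom, ?_, hn _ _ h1, hn _ _ h2, hn _ _ h3, ?_⟩
  · intro K hK
    obtain ⟨K0, hK0, rfl⟩ : ∃ K0 ∈ [A, B, C], K0.map e.toMonoidHom = K := by
      simp only [List.mem_cons, List.not_mem_nil, or_false] at hK
      rcases hK with rfl | rfl | rfl <;> exact ⟨_, by simp, rfl⟩
    obtain ⟨ha, ⟨hb⟩⟩ := hp K0 hK0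
    obtain ⟨hc, ⟨q⟩⟩ := hprop K0
    exact ⟨hc.trans ha, ⟨q.symm.trans hb⟩⟩
  · intro K hc hq
    obtain ⟨K0, rfl⟩ : ∃ K0 : Subgroup V, K0.map e.toMonoidHom = K :=
      ⟨K.comap e.toMonoidHom, Subgroup.map_comap_eq_self_of_surjective e.surjective K⟩
    obtain ⟨hc', ⟨q⟩⟩ := hprop K0
    obtain ⟨g, hg⟩ := h4 K0 (hc'.symm.trans hc) ⟨q.trans hq.some⟩
    refine ⟨e g, ?_⟩
    rw [← hconj]
    rcases hg with hg | hg | hg <;> rw [hg] <;> simp
where
  center_congr {G H : Type} [Group G] [Group H] (f : G ≃* H) :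
      (Subgroup.center G).map f.toMonoidHom = Subgroup.center H := by
    ext x
    obtain ⟨y, rfl⟩ := f.surjective x
    rw [Subgroup.mem_map_equiv, f.symm_apply_apply, Subgroup.mem_center_iff, Subgroup.mem_center_iff]
    exact ⟨fun h g => by obtain ⟨g, rfl⟩ := f.surjective g; rw [← map_mul, ← map_mul, h],
      fun h g => f.injective (by rw [map_mul, map_mul, h])⟩

end CfsgLib.SUSixFourThree
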