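import Cfsg.Agent.Coset.G24.Field
import Cfsg.Agent.Unitary.Special
import Cfsg.Agent.Unitary.Generation
import Mathlib.GroupTheory.SpecificGroups.Alternating
import Mathlib.LinearAlgebra.Matrix.Permutation

/-!
# Monomial subgroups of SU(6,2)
-/

set_option autoImplicit false
set_option maxRecDepth 100000
set_option linter.style.haveILetI false

namespace CfsgLib.SUSixFourThree

open Matrix CfsgLib.Unitary
open CfsgLib.Coset.G24 (F4)

/-- The special unitary group. -/
abbrev U : Type := Cfsg.SU 6 F4 2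

theorem hF : Nat.card F4 = 2 ^ 2 := by rw [Nat.card_eq_fintype_card, F4.card_eq]; rfl

/-- The matrix of an element. -/
def mat (g : U) : Matrix (Fin 6) (Fin 6) F4 := suMat g

theorem mat_mul (g h : U) : mat (g * h) = mat g * mat h := suMat_mul g h

theorem mat_one : mat 1 = 1 := rfl

theorem mat_inj : Function.Injective mat := fun _ _ h => Subtype.ext (Subtype.ext h)

/-- The matrices as a homomorphism. -/
def matHom : U →* Matrix (Fin 6) (Fin 6) F4 where
  toFun := mat
  map_one' := mat_one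
  map_mul' := mat_mul

theorem add_sq' : ∀ x y : F4, (x + y) ^ 2 = x ^ 2 + y ^ 2 := by decide +kernel

theorem cube_one : ∀ x : F4, x ≠ 0 → x * x ^ 2 = 1 := by decide +kernel

theorem sq_sq : ∀ x : F4, (x ^ 2) ^ 2 = x := by decide +kernel

theorem col_orth (g : U) (i j : Fin 6) :
    ∑ k, mat g k i * mat g k j ^ 2 = if i = j then 1 else 0 := by
  have h : Cfsg.hermForm 6 F4 2 (mat g *ᵥ Pi.single i 1) (mat g *ᵥ Pi.single j 1) =
      Cfsg.hermForm 6 F4 2 (Pi.single i 1) (Pi.single j 1) := g.2 _ _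
  simpa [Cfsg.hermForm, Matrix.mulVec_single, Pi.single_apply, eq_comm] using h

/-- An element from a unitary matrix of determinant one. -/
def mkU (X : Matrix (Fin 6) (Fin 6) F4) (hd : X.det = 1)
    (h : ∀ i j, ∑ k, X k i * X k j ^ 2 = if i = j then 1 else 0) : U :=
  ⟨⟨X, hd⟩, by
    intro u v
    show Cfsg.hermForm 6 F4 2 (X *ᵥ u) (X *ᵥ v) = Cfsg.hermForm 6 F4 2 u v
    let φ : F4 →+ F4 := AddMonoidHom.mk' (fun x => x ^ 2) add_sq'
    have hsum : ∀ f : Fin 6 → F4, (∑ j, f j) ^ 2 = ∑ j, f j ^ 2 := fun f => map_sum φ f Finset.univ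
    calc Cfsg.hermForm 6 F4 2 (X *ᵥ u) (X *ᵥ v)
        = ∑ k, ∑ i, ∑ j, u i * v j ^ 2 * (X k i * X k j ^ 2) := by
          simp only [Cfsg.hermForm, Matrix.mulVec, dotProduct, hsum, Finset.sum_mul, Finset.mul_sum]
          refine Finset.sum_congr rfl fun k _ => ?_
          rw [Finset.sum_comm]
          refine Finset.sum_congr rfl fun i _ => Finset.sum_congr rfl fun j _ => ?_
          ring
      _ = ∑ i, ∑ j, u i * v j ^ 2 * ∑ k, X k i * X k j ^ 2 := by
          simp only [Finset.mul_sum]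
          rw [Finset.sum_comm]
          exact Finset.sum_congr rfl fun i _ => Finset.sum_comm
      _ = Cfsg.hermForm 6 F4 2 u v := by
          simp only [h, mul_ite, mul_one, mul_zero, Finset.sum_ite_eq, Finset.mem_univ, if_true, Cfsg.hermForm]⟩

theorem mat_mkU (X : Matrix (Fin 6) (Fin 6) F4) (hd h) : mat (mkU X hd h) = X := rfl

theorem mat_inv (g : U) (i j : Fin 6) : mat g⁻¹ i j = mat g j i ^ 2 := by
  have h : (Matrix.of fun i j => mat g j i ^ 2) * mat g = 1 := Matrix.ext fun i j => by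
    rw [Matrix.mul_apply, Matrix.one_apply]
    simp only [Matrix.of_apply]
    have := col_orth g j i
    simp only [mul_comm, eq_comm (a := j)] at this
    exact this
  have h2 : mat g * mat g⁻¹ = 1 := by rw [← mat_mul, mul_inv_cancel, mat_one]
  have h3 : (Matrix.of fun i j => mat g j i ^ 2) = mat g⁻¹ := left_inv_eq_right_inv h h2
  have e := congrFun (congrFun h3 i) j
  exact e.symm

theorem exists_in_row (g : U) (i : Fin 6) : ∃ j, mat g i j ≠ 0 := by
  by_contra h
  push_neg at h
  have h2 : mat g * mat g⁻¹ = 1 := by rw [← mat_mul, mul_inv_cancel, mat_one]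
  have e := congrFun (congrFun h2 i) i
  simp [Matrix.mul_apply, h] at e

/-- A monomial matrix. -/
def monM (σ : Equiv.Perm (Fin 6)) (d : Fin 6 → F4) : Matrix (Fin 6) (Fin 6) F4 :=
  Matrix.of fun i j => if σ j = i then d i else 0

theorem monM_apply (σ : Equiv.Perm (Fin 6)) (d : Fin 6 → F4) (i j : Fin 6) :
    monM σ d i j = if σ j = i then d i else 0 := rfl

theorem monM_mul (σ τ : Equiv.Perm (Fin 6)) (d e : Fin 6 → F4) :
    monM σ d * monM τ e = monM (σ * τ) fun i => d i * e (σ⁻¹ i) := by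
  refine Matrix.ext fun i j => ?_
  rw [Matrix.mul_apply, Finset.sum_eq_single (τ j)]
  · simp only [monM_apply, Equiv.Perm.mul_apply, if_true]
    by_cases h : σ (τ j) = i
    · simp [← h]
    · simp [h]
  · intro b _ hb; rw [monM_apply τ, if_neg (Ne.symm hb), mul_zero]
  · simp

theorem monM_one : monM 1 (fun _ => 1) = 1 := by
  refine Matrix.ext fun i j => ?_
  simp [monM_apply, Matrix.one_apply, eq_comm]

/-- A diagonal matrix. -/
abbrev diagM (d : Fin 6 → F4) : Matrix (Fin 6) (Fin 6) F4 := monM 1 d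

theorem diagM_eq (d : Fin 6 → F4) : diagM d = Matrix.diagonal d := by
  refine Matrix.ext fun i j => ?_
  simp [monM_apply, Matrix.diagonal_apply, eq_comm]

theorem det_monM (σ : Equiv.Perm (Fin 6)) (d : Fin 6 → F4) : (monM σ d).det = ∏ i, d i := by
  have h : monM σ d = Matrix.diagonal d * Equiv.Perm.permMatrix F4 σ⁻¹ := by
    refine Matrix.ext fun i j => ?_
    simp [monM_apply, Matrix.diagonal_mul, PEquiv.toMatrix_apply, Equiv.symm_apply_eq, eq_comm (a := i)]
  rw [h, Matrix.det_mul, Matrix.det_diagonal, Matrix.det_permutation]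
  rcases Int.units_eq_one_or (Equiv.Perm.sign σ⁻¹) with e | e <;> rw [e] <;>
    simp [show -(1 : F4) = 1 from rfl]

theorem monM_orth (σ : Equiv.Perm (Fin 6)) (d : Fin 6 → F4) (hd : ∀ i, d i ≠ 0) (i j : Fin 6) :
    ∑ k, monM σ d k i * monM σ d k j ^ 2 = if i = j then 1 else 0 := by
  rw [Finset.sum_eq_single (σ i)]
  · rw [monM_apply, if_pos rfl, monM_apply]
    by_cases h : i = j
    · subst h; rw [if_pos rfl, if_pos rfl, cube_one _ (hd _)]
    · rw [if_neg (fun e => h (σ.injective e).symm), if_neg h, zero_pow two_ne_zero, mul_zero]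
  · intro b _ hb; rw [monM_apply, if_neg (Ne.symm hb), zero_mul]
  · simp

theorem ne_zero_of_prod {d : Fin 6 → F4} (h : ∏ i, d i = 1) (i : Fin 6) : d i ≠ 0 := fun e =>
  one_ne_zero (h.symm.trans (Finset.prod_eq_zero (Finset.mem_univ i) e))

/-- A monomial element. -/
def monU (σ : Equiv.Perm (Fin 6)) (d : Fin 6 → F4) (h : ∏ i, d i = 1) : U :=
  mkU (monM σ d) ((det_monM σ d).trans h) (monM_orth σ d (ne_zero_of_prod h))

/-- Being monomial with a given permutation. -/
def IsMon (g : U) (σ : Equiv.Perm (Fin 6)) : Prop :=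
  ∀ i j, σ j ≠ i → mat g i j = 0

theorem IsMon.eq {g : U} {σ : Equiv.Perm (Fin 6)} (h : IsMon g σ) :
    mat g = monM σ fun i => mat g i (σ⁻¹ i) := by
  refine Matrix.ext fun i j => ?_
  rw [monM_apply]
  split <;> rename_i e
  · subst e; simp
  · exact h i j e

theorem isMon_of_eq {g : U} {σ : Equiv.Perm (Fin 6)} {d : Fin 6 → F4} (h : mat g = monM σ d) :
    IsMon g σ := fun i j e => by rw [h, monM_apply, if_neg e]

theorem IsMon.prod {g : U} {σ : Equiv.Perm (Fin 6)} (h : IsMon g σ) :
    ∏ i, mat g i (σ⁻¹ i) = 1 := by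
  rw [← det_monM σ, ← h.eq]
  exact g.1.2

theorem IsMon.ne {g : U} {σ : Equiv.Perm (Fin 6)} (h : IsMon g σ) (j : Fin 6) : mat g (σ j) j ≠ 0 := by
  have := ne_zero_of_prod h.prod (σ j)
  simpa using this

theorem IsMon.unique {g : U} {σ τ : Equiv.Perm (Fin 6)} (h : IsMon g σ) (h' : IsMon g τ) : σ = τ :=
  Equiv.ext fun j => by_contra fun e => h.ne j (h' _ _ (Ne.symm e))

theorem IsMon.mul {g h : U} {σ τ : Equiv.Perm (Fin 6)} (hg : IsMon g σ) (hh : IsMon h τ) :
    IsMon (g * h) (σ * τ) :=
  isMon_of_eq (by rw [mat_mul, hg.eq, hh.eq, monM_mul])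

theorem IsMon.one : IsMon 1 1 := fun i j e => by
  rw [mat_one, Matrix.one_apply, if_neg]
  exact fun h => e h.symm

theorem IsMon.inv {g : U} {σ : Equiv.Perm (Fin 6)} (hg : IsMon g σ) : IsMon g⁻¹ σ⁻¹ := fun i j e => by
  rw [mat_inv, hg j i (fun h => e (by simp [← h])), zero_pow two_ne_zero]

/-- The monomial subgroup. -/
def MonS : Subgroup U where
  carrier := {g | ∃ σ, IsMon g σ}
  one_mem' := ⟨1, IsMon.one⟩
  mul_mem' := fun ⟨_, a⟩ ⟨_, b⟩ => ⟨_, a.mul b⟩
  inv_mem' := fun ⟨_, a⟩ => ⟨_, a.inv⟩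

/-- The permutation of a monomial element. -/
noncomputable def perm : MonS →* Equiv.Perm (Fin 6) where
  toFun g := g.2.choose
  map_one' := (Exists.choose_spec (1 : MonS).2).unique IsMon.one
  map_mul' a b := (Exists.choose_spec (a * b).2).unique (a.2.choose_spec.mul b.2.choose_spec)

theorem perm_eq {g : MonS} {σ : Equiv.Perm (Fin 6)} (h : IsMon g.1 σ) : perm g = σ :=
  g.2.choose_spec.unique h

theorem perm_spec (g : MonS) : IsMon g.1 (perm g) := g.2.choose_spec

theorem monU_isMon (σ : Equiv.Perm (Fin 6)) (d : Fin 6 → F4) (h : ∏ i, d i = 1) :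
    IsMon (monU σ d h) σ := isMon_of_eq rfl

theorem perm_surjective : Function.Surjective perm := fun σ =>
  have h : ∏ _i : Fin 6, (1 : F4) = 1 := by simp
  ⟨⟨monU σ (fun _ => 1) h, σ, monU_isMon _ _ h⟩, perm_eq (monU_isMon _ _ h)⟩

/-- The monomial elements with permutation in a subgroup. -/
noncomputable def monOver (H : Subgroup (Equiv.Perm (Fin 6))) : Subgroup U := (H.comap perm).map MonS.subtype

theorem mem_monOver {H : Subgroup (Equiv.Perm (Fin 6))} {g : U} :
    g ∈ monOver H ↔ ∃ σ ∈ H, IsMon g σ := by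
  constructor
  · rintro ⟨x, hx, rfl⟩; exact ⟨perm x, hx, perm_spec x⟩
  · rintro ⟨σ, hσ, hg⟩
    exact ⟨⟨g, σ, hg⟩, by rw [SetLike.mem_coe, Subgroup.mem_comap, perm_eq (g := ⟨g, σ, hg⟩) hg]; exact hσ, rfl⟩

/-- The diagonal subgroup. -/
noncomputable def DU : Subgroup U := monOver ⊥

/-- The monomial elements with even permutation. -/
noncomputable def MM : Subgroup U := monOver (alternatingGroup (Fin 6))

theorem mem_DU {g : U} : g ∈ DU ↔ IsMon g 1 := by
  rw [DU, mem_monOver]
  constructor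
  · rintro ⟨σ, hσ, hg⟩; rwa [Subgroup.mem_bot.mp hσ] at hg
  · exact fun h => ⟨1, one_mem _, h⟩

theorem prod_count : Fintype.card {d : Fin 6 → F4 // ∏ i, d i = 1} = 243 := by decide +kernel

/-- The diagonal elements and their entries. -/
noncomputable def DUEquiv : DU ≃ {d : Fin 6 → F4 // ∏ i, d i = 1} where
  toFun g := ⟨fun i => mat g.1 i i, by simpa using (mem_DU.mp g.2).prod⟩
  invFun d := ⟨monU 1 d.1 d.2, mem_DU.mpr (monU_isMon _ _ _)⟩
  left_inv g := Subtype.ext (mat_inj (by
    show monM 1 (fun i => mat g.1 i i) = mat g.1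
    conv_rhs => rw [(mem_DU.mp g.2).eq]
    simp))
  right_inv d := Subtype.ext (funext fun i => by simp [monU, mat_mkU, monM_apply])

theorem card_DU : Nat.card DU = 243 := by
  rw [Nat.card_congr DUEquiv, Nat.card_eq_fintype_card, prod_count]

theorem card_monOver (H : Subgroup (Equiv.Perm (Fin 6))) : Nat.card (monOver H) = Nat.card H * 243 := by
  have hker : Nat.card perm.ker = 243 := by
    rw [← card_DU, DU, monOver, Subgroup.card_subtype, MonoidHom.comap_bot]
  rw [monOver, Subgroup.card_subtype, ← hker]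
  have h1 : Nat.card MonS = Nat.card (Equiv.Perm (Fin 6)) * Nat.card perm.ker := by
    rw [Subgroup.card_eq_card_quotient_mul_card_subgroup perm.ker,
      Nat.card_congr (QuotientGroup.quotientKerEquivOfSurjective perm perm_surjective).toEquiv]
  have h2 := (H.comap perm).card_mul_index
  rw [H.index_comap_of_surjective perm_surjective, h1, ← H.card_mul_index] at h2
  have hi : H.index ≠ 0 := Subgroup.index_ne_zero_of_finite
  exact Nat.eq_of_mul_eq_mul_right (Nat.pos_of_ne_zero hi) (by linarith)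

theorem card_MM : Nat.card MM = 87480 := by
  have h : Nat.card (alternatingGroup (Fin 6)) = 360 := by
    have := two_mul_nat_card_alternatingGroup (α := Fin 6)
    rw [Nat.card_eq_fintype_card (α := Equiv.Perm (Fin 6)), Fintype.card_perm, Fintype.card_fin] at this
    have e : Nat.factorial 6 = 720 := rfl
    omega
  rw [MM, card_monOver, h]

theorem monOver_mono {H L : Subgroup (Equiv.Perm (Fin 6))} (h : H ≤ L) : monOver H ≤ monOver L :=
  Subgroup.map_mono (Subgroup.comap_mono h)

theorem DU_le_MM : DU ≤ MM := monOver_mono bot_le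

theorem monOver_top : monOver ⊤ = MonS := by
  rw [monOver, Subgroup.comap_top, ← MonoidHom.range_eq_map, Subgroup.range_subtype]

theorem mem_MonS_of_cols {g : U} (key : ∀ i k j, mat g i j ≠ 0 → mat g k j ≠ 0 → i = k) : g ∈ MonS := by
  classical
  have hcol : ∀ j, ∃ i, mat g i j ≠ 0 := fun j => by
    obtain ⟨i, hi⟩ := exists_in_row g⁻¹ j
    exact ⟨i, fun e => hi (by rw [mat_inv, e, zero_pow two_ne_zero])⟩
  choose f hf using hcol
  have hinj : Function.Injective f := by
    intro j j' e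
    by_contra hne
    have h0 := col_orth g j j'
    rw [if_neg hne, Finset.sum_eq_single (f j)] at h0
    · exact mul_ne_zero (hf j) (pow_ne_zero _ (e ▸ hf j')) h0
    · intro b _ hb
      by_cases hb0 : mat g b j = 0
      · rw [hb0, zero_mul]
      · exact absurd (key b (f j) j hb0 (hf j)) hb
    · simp
  exact ⟨Equiv.ofBijective f (Finite.injective_iff_bijective.mp hinj), fun i j hne =>
    by_contra fun h0 => hne (key (f j) i j (hf j) h0)⟩

theorem mem_MonS_of_normalizes {g : U} (h : ∀ d ∈ DU, g⁻¹ * d * g ∈ DU) : g ∈ MonS := by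
  classical
  refine mem_MonS_of_cols ?_
  intro i k j hi hk
  by_contra hne
  obtain ⟨a, ha⟩ : ∃ a : Fin 6, a ≠ i ∧ a ≠ k :=
    (by decide : ∀ i k : Fin 6, ∃ a : Fin 6, a ≠ i ∧ a ≠ k) i k
  let d : Fin 6 → F4 := fun x => if x = i then .w else if x = a then .v else 1
  have hd : ∏ x, d x = 1 := by
    have : ∀ i a : Fin 6, a ≠ i → (∏ x : Fin 6, if x = i then (F4.w) else if x = a then F4.v else 1) = 1 := by
      decide +kernel
    exact this i a ha.1
  set D := g⁻¹ * monU 1 d hd * g with hDdef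
  have hD : IsMon D 1 := mem_DU.mp (h _ (mem_DU.mpr (monU_isMon _ _ _)))
  have e : mat (monU 1 d hd) * mat g = mat g * mat D := by
    rw [← mat_mul, ← mat_mul, hDdef, mul_assoc g⁻¹, mul_inv_cancel_left]
  have ev : ∀ x, d x * mat g x j = mat g x j * mat D j j := fun x => by
    have := congrFun (congrFun e x) j
    rwa [show mat (monU 1 d hd) = Matrix.diagonal d from diagM_eq d, Matrix.diagonal_mul,
      Matrix.mul_apply, Finset.sum_eq_single j (fun b _ hb => by rw [hD b j (Ne.symm hb), mul_zero])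
        (by simp)] at this
  have h1 : d i = mat D j j := mul_right_cancel₀ hi (by rw [ev, mul_comm])
  have h2 : d k = mat D j j := mul_right_cancel₀ hk (by rw [ev, mul_comm])
  have h3 : d i = .w := if_pos rfl
  have h4 : d k = 1 := by simp only [d, if_neg (Ne.symm hne), if_neg (Ne.symm ha.2)]
  rw [← h2, h3, h4] at h1
  exact absurd h1 (by decide)

end CfsgLib.SUSixFourThree
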