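import Cfsg.Agent.SUSixFourThree.Rep

/-!
# The subgroups generated by the even monomial group and a block diagonal element
-/

set_option autoImplicit false
set_option maxRecDepth 100000
set_option linter.style.haveILetI false

namespace CfsgLib.SUSixFourThree

open Matrix CfsgLib.Unitary CfsgLib.CentralCert CfsgLib.ExtCert
open CfsgLib.CentralCert.UFourThree (c4 dec4)
open CfsgLib.Coset.G24 (F4)

attribute [local irreducible] CfsgLib.CentralCert.FieldCode.mcode

theorem block_factor {g : U} (hg : ∀ i j : Fin 6, (i.val < 3 ↔ ¬ j.val < 3) → mat g i j = 0) :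
    ∃ a b : Fin 4, g * (repU a b)⁻¹ ∈ MonS := by
  let A : Matrix (Fin 3) (Fin 3) F4 := Matrix.of fun i j => mat g ⟨i.val, by omega⟩ ⟨j.val, by omega⟩
  let B : Matrix (Fin 3) (Fin 3) F4 := Matrix.of fun i j => mat g ⟨i.val + 3, by omega⟩ ⟨j.val + 3, by omega⟩
  have hgm : mat g = blkM A B := Matrix.ext fun i j => by
    fin_cases i <;> fin_cases j <;> first | rfl | exact hg _ _ (by decide)
  have hA : ∀ i j, dot3 (fun k => A k i) (fun k => A k j) = if i = j then 1 else 0 := fun i j => by
    have e := col_orth g ⟨i.val, by omega⟩ ⟨j.val, by omega⟩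
    rw [hgm, Fin.sum_univ_six] at e
    fin_cases i <;> fin_cases j <;> simpa [blkM, dot3, pow_two] using e
  have hB : ∀ i j, dot3 (fun k => B k i) (fun k => B k j) = if i = j then 1 else 0 := fun i j => by
    have e := col_orth g ⟨i.val + 3, by omega⟩ ⟨j.val + 3, by omega⟩
    rw [hgm, Fin.sum_univ_six] at e
    fin_cases i <;> fin_cases j <;> simpa [blkM, dot3, pow_two] using e
  obtain ⟨a, ha⟩ := exists_rep A hA
  obtain ⟨b, hb⟩ := exists_rep B hB
  refine ⟨a, b, mem_MonS_of_cols fun i k j hi hk => ?_⟩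
  have hinv : mat (repU a b)⁻¹ = blkM ((rep a)ᵀ.map (· ^ 2)) ((rep b)ᵀ.map (· ^ 2)) := Matrix.ext fun x y => by
    rw [mat_inv]
    show blkM (rep a) (rep b) y x ^ 2 = _
    fin_cases x <;> fin_cases y <;> simp [blkM]
  rw [mat_mul, hgm, hinv, blkM_mul] at hi hk
  simp only [blkM, Matrix.of_apply] at hi hk
  split_ifs at hi with h1 h2 h3
  all_goals first | exact absurd rfl hi | skip
  · simp only [h2, dite_true] at hk
    split_ifs at hk with h4
    · exact Fin.ext (congrArg Fin.val (ha _ _ _ hi hk) :)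
    · exact absurd rfl hk
  · simp only [h3, dite_false] at hk
    split_ifs at hk with h4
    · exact absurd rfl hk
    · have := congrArg Fin.val (hb _ _ _ hi hk)
      simp only at this
      omega

/-- The group in which a representative lies. -/
def iOf (a b : Fin 4) : Fin 3 := Fin.ofNat 3 (insideWords.getD ((a.val - 1) * 3 + (b.val - 1)) (0, [])).1

/-- The word of a representative. -/
def wOf (a b : Fin 4) : List ℕ := (insideWords.getD ((a.val - 1) * 3 + (b.val - 1)) (0, [])).2

theorem inside_ok : ∀ a b : Fin 4, a ≠ 0 → b ≠ 0 → c4.mcode (blkM (rep a) (rep b)) = code (wOf a b) ∧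
    ∀ l ∈ wOf a b, l < 4 ∨ l = 10 + (iOf a b).val := by decide +kernel

/-- A representative, or its product with the transposition, as a word. -/
def xw (a b : Fin 4) (e : Bool) : List ℕ :=
  (if e then [3] else []) ++ ((if a = 0 then [] else [3 + a.val]) ++ (if b = 0 then [] else [6 + b.val]))

/-- A word with a placeholder. -/
def outW (a b : Fin 4) (e : Bool) : List ℕ :=
  outsideWords.getD (2 * (if a = 0 then b.val - 1 else 2 + a.val) + if e then 1 else 0) []

/-- Replace the placeholder. -/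
def fill (a b : Fin 4) (e : Bool) (k : ℕ) : List ℕ := if k < 3 then [k] else xw a b e

theorem outside_ok : ∀ a b : Fin 4, ((a = 0 ∧ b ≠ 0) ∨ (a ≠ 0 ∧ b = 0)) → ∀ e : Bool,
    code (xw a b e) = (if e then modelU.mul (genCodes.getD 3 0) (c4.mcode (blkM (rep a) (rep b)))
      else c4.mcode (blkM (rep a) (rep b))) ∧ elevenOK ((outW a b e).flatMap (fill a b e)) = true := by
  decide +kernel

theorem rep_zero : c4.mcode (blkM (rep 0) (rep 0)) = code [] := by decide +kernel

theorem ev_flatMap_mem {K : Subgroup U} (f : ℕ → List ℕ) : ∀ w : List ℕ,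
    (∀ k ∈ w, ev xU (f k) ∈ K) → ev xU (w.flatMap f) ∈ K
  | [], _ => by simp [ev]
  | k :: w, h => by
    rw [List.flatMap_cons, ev_append]
    exact mul_mem (h k List.mem_cons_self) (ev_flatMap_mem f w fun l hl => h l (List.mem_cons_of_mem k hl))

theorem no_eleven_fill {K : Subgroup U} (hK : Nat.card K = 9797760) {w : List ℕ} (h : ev xU w ∈ K)
    (he : elevenOK w = true) : False := by
  have hd : 11 ∣ Nat.card K := (eleven_dvd he).trans (Subgroup.orderOf_dvd_natCard _ h)
  rw [hK] at hd
  norm_num at hd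

/-- The monomial group and one of the three groups. -/
def Tc (i : Fin 3) : Subgroup U := twoExt (Kc i) tau tau_sq (tau_normalizes_Kc i)

theorem MonS_le_Tc (i : Fin 3) : MonS ≤ Tc i := fun g hg => by
  rcases MonS_le_MT hg with h | h
  · exact Or.inl (MM_le_Kc i (MM_eq ▸ h))
  · exact Or.inr (MM_le_Kc i (MM_eq ▸ h))

theorem twoExt_parity {A : Subgroup U} {t : U} {ht : t * t = 1} {hn : ∀ a ∈ A, t * a * t ∈ A} {a b : U}
    (ha : a ∈ twoExt A t ht hn) (hb : b ∈ twoExt A t ht hn) : a * b ∈ A ↔ (a ∈ A ↔ b ∈ A) := by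
  by_cases h1 : a ∈ A
  · exact ⟨fun h => iff_of_true h1 ((Subgroup.mul_mem_cancel_left A h1).mp h),
      fun h => mul_mem h1 (h.mp h1)⟩
  · by_cases h2 : b ∈ A
    · exact iff_of_false (fun h => h1 ((Subgroup.mul_mem_cancel_right A h2).mp h)) (fun h => h1 (h.mpr h2))
    · refine iff_of_true ?_ (iff_of_false h1 h2)
      have ha' := ha.resolve_left h1
      have hb' := hb.resolve_left h2
      have e : a * b = a * t * (t * (b * t) * t) := by
        simp only [mul_assoc]; rw [ht, mul_one, ← mul_assoc t t, ht, one_mul]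
      rw [e]; exact mul_mem ha' (hn _ hb')

theorem commutator_Tc (i : Fin 3) : ⁅Tc i, Tc i⁆ ≤ Kc i := by
  rw [Subgroup.commutator_le]
  intro a ha b hb
  rw [commutatorElement_def, mul_assoc (a * b), twoExt_parity (mul_mem ha hb)
    (mul_mem (inv_mem ha) (inv_mem hb)), twoExt_parity ha hb, twoExt_parity (inv_mem ha) (inv_mem hb),
    Subgroup.inv_mem_iff, Subgroup.inv_mem_iff]

theorem card_MonS : Nat.card MonS = 174960 := by
  rw [← monOver_top, card_monOver, Subgroup.card_top, Nat.card_eq_fintype_card, Fintype.card_perm,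
    Fintype.card_fin]
  rfl

theorem enc_eq (x : U) : modelU.enc x = c4.mcode (mat x) := rfl

theorem mat_repU (a b : Fin 4) : modelU.enc (repU a b) = c4.mcode (blkM (rep a) (rep b)) := by
  rw [enc_eq, repU, mat_mkU]

theorem classify_gen (K : Subgroup U) (hK : Nat.card K = 9797760) (g : U) (hMK : MM ≤ K)
    (hgen : K ≤ Subgroup.closure ((MM : Set U) ∪ {g})) (hgK : g ∈ K)
    (hblk : ∀ i j : Fin 6, (i.val < 3 ↔ ¬ j.val < 3) → mat g i j = 0)
    (hperf : K ≤ ⁅K, K⁆ ⊔ Subgroup.center U) : ∃ i, K = Kc i := by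
  obtain ⟨a, b, hm⟩ := block_factor hblk
  have hg : g = g * (repU a b)⁻¹ * repU a b := (inv_mul_cancel_right _ _).symm
  have hle : ∀ H : Subgroup U, MM ≤ H → g ∈ H → K ≤ H := fun H h1 h2 =>
    hgen.trans ((Subgroup.closure_le H).mpr (Set.union_subset h1 (Set.singleton_subset_iff.mpr h2)))
  by_cases h0 : a = 0 ∧ b = 0
  · exfalso
    obtain ⟨rfl, rfl⟩ := h0
    have e : repU 0 0 = 1 := modelU.inj (by rw [mat_repU, rep_zero, ← enc_ev]; simp [ev])
    rw [e, inv_one, mul_one] at hm
    have := Subgroup.card_le_of_le (hle MonS (monOver_top ▸ monOver_mono le_top) hm)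
    rw [hK, card_MonS] at this
    omega
  by_cases h1 : a ≠ 0 ∧ b ≠ 0
  · obtain ⟨hc, hl⟩ := inside_ok a b h1.1 h1.2
    refine ⟨iOf a b, ?_⟩
    have hR : repU a b ∈ Tc (iOf a b) := by
      rw [show repU a b = ev xU (wOf a b) from modelU.inj ((mat_repU a b).trans (hc.trans (enc_ev _).symm))]
      refine ev_mem fun l hlw => ?_
      rcases hl l hlw with h | h
      · rcases MT_of_lt h with h' | h'
        · exact Or.inl (MM_le_Kc _ (MM_eq ▸ h'))
        · exact Or.inr (MM_le_Kc _ (MM_eq ▸ h'))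
      · exact Or.inl (Kc_of (Or.inr h))
    have hKT : K ≤ Tc (iOf a b) :=
      hle _ (fun x hx => Or.inl (MM_le_Kc _ hx)) (hg ▸ mul_mem (MonS_le_Tc _ hm) hR)
    have hKK : K ≤ Kc (iOf a b) := hperf.trans (sup_le
      ((Subgroup.commutator_mono hKT hKT).trans (commutator_Tc _))
      (center_le_DU.trans (DU_le_MM.trans (MM_le_Kc _))))
    exact Subgroup.eq_of_le_of_card_ge hKK (by rw [hK, card_Kc])
  exfalso
  have hab : (a = 0 ∧ b ≠ 0) ∨ (a ≠ 0 ∧ b = 0) := by tauto
  have fin : ∀ e : Bool, (if e then tau * repU a b else repU a b) ∈ K → False := fun e he => by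
    obtain ⟨hc, h11⟩ := outside_ok a b hab e
    have hx : ev xU (xw a b e) ∈ K := by
      have e1 : ev xU (xw a b e) = if e then tau * repU a b else repU a b := modelU.inj (by
        rw [enc_ev, hc]
        cases e
        · rfl
        · simp only [if_true]
          rw [modelU.enc_mul, ← mat_repU, show tau = xU 3 from rfl, xU_spec]
          rfl)
      rw [e1]; exact he
    refine no_eleven_fill hK (ev_flatMap_mem _ _ fun k hk => ?_) h11
    rw [fill]
    split <;> rename_i h
    · rw [show ev xU [k] = xU k by simp [ev]]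
      exact hMK (MM_eq ▸ MG_of_lt h)
    · exact hx
  rcases MonS_le_MT hm with h | h
  · refine fin false ?_
    have := mul_mem (inv_mem (hMK (MM_eq ▸ h))) hgK
    simpa using this
  · refine fin true ?_
    have := mul_mem (inv_mem (hMK (MM_eq ▸ h))) hgK
    simp only [if_true]
    convert this using 1
    rw [_root_.mul_inv_rev, _root_.mul_inv_rev, inv_inv, inv_eq_of_mul_eq_one_right tau_sq]
    simp [mul_assoc]

theorem apart_ok : ∀ k : Fin 3, elevenOK (apartWords.getD k.val []) = true ∧
    ∀ l ∈ apartWords.getD k.val [], l < 3 ∨ l = 10 + ([0, 0, 1].getD k.val 0) ∨ l = 10 + ([1, 2, 2].getD k.val 0) := by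
  decide +kernel

theorem Kc_ne {i j : Fin 3} (hij : i < j) : Kc i ≠ Kc j := fun e => by
  obtain ⟨k, hi, hj⟩ :=
    (by decide : ∀ i j : Fin 3, i < j → ∃ k : Fin 3, i.val = [0, 0, 1].getD k.val 0 ∧ j.val = [1, 2, 2].getD k.val 0)
      i j hij
  obtain ⟨h11, hl⟩ := apart_ok k
  refine no_eleven (card_Kc i) (fun l hlw => ?_) h11
  rcases hl l hlw with h | h | h
  · exact Kc_of (Or.inl h)
  · exact Kc_of (Or.inr (h.trans (by rw [hi])))
  · exact e ▸ Kc_of (i := j) (Or.inr (h.trans (by rw [hj])))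

end CfsgLib.SUSixFourThree
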