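/-!
Recorded words among subgroups of SU(6,2).
-/

set_option autoImplicit false

namespace CfsgLib.SUSixFourThree

/-- The codes of the generators. -/
def genCodes : List Nat := [1180663682709764227074, 1180663682709562855440, 295165920677445238785, 1180663682709764182020, 1180663682710250950677, 1180663682710217265189, 1180663682710133444661, 3321440846342004948993, 3173290503368769290241, 2804643922639474147329, 3321440846342491557945, 3321440846342525120541, 3321440846342508339237]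

/-- Coset representatives of the monomial group in GU(3,2). -/
def repBlocks : List (List Nat) := [[1, 0, 0, 0, 1, 0, 0, 0, 1], [1, 1, 1, 1, 2, 3, 1, 3, 2], [1, 1, 2, 1, 2, 1, 3, 2, 2], [1, 1, 3, 1, 2, 2, 2, 1, 2]]

/-- The lifts as words. -/
def liftWords : List (List Nat) := [[2, 2, 2, 2, 10, 0, 1, 2, 2, 0, 0, 2], [0, 10, 10, 1, 2, 10, 10, 10, 2, 1, 10, 10, 1], [1, 0, 2, 10, 10, 2, 1, 0, 2, 1, 10, 10, 10, 2], [0, 2, 0, 10, 2, 0, 2, 0, 2, 0, 2, 0, 1, 1], [2, 1, 2, 0, 2, 0, 1, 0, 10, 2, 2, 1, 2], [0, 2, 10, 0, 1, 2, 2, 1, 2, 10, 0, 2, 1, 0]]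

/-- The generators as words in the lifts. -/
def genWords : List (List Nat) := [[5, 5, 1, 4, 1, 2, 0, 0, 1], [0, 3, 3, 0, 0, 3, 0, 2, 2], [1, 0, 4, 4, 4, 0, 2, 5, 4, 2], [1, 1, 1, 3, 5, 1, 2, 1, 2, 4]]

/-- The normalisation by a transposition. -/
def normWords : List (List Nat) := [[0, 10, 0, 0], [11], [12, 1]]

/-- The adjacent transpositions. -/
def swapWords : List (List Nat) := [[3], [3, 1], [2, 1, 2, 3, 2, 2, 2], [2, 2, 1, 2, 3, 2, 2], [2, 2, 2, 1, 2, 3, 2]]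

/-- Generators of the diagonal group. -/
def diagWords : List (List Nat) := [[0], [1, 0, 1, 1], [2, 0, 0, 2, 0, 2, 2, 2], [2, 2, 0, 0, 2, 0, 2, 2], [2, 2, 2, 0, 0, 2, 0, 2]]

/-- Representatives inside an extension. -/
def insideWords : List (Nat × List Nat) := [(0, [3, 10]), (2, [1, 1, 2, 2, 1, 1, 2, 12, 2, 2, 3, 2]), (1, [3, 2, 2, 3, 2, 0, 11, 11, 11, 2, 2, 3, 2]), (2, [12, 3]), (1, [2, 2, 3, 2, 1, 11, 0, 2, 1, 1, 2, 2, 11, 1]), (0, [2, 0, 2, 3, 0, 2, 10, 0, 0, 2, 2, 10, 1, 10, 2]), (1, [0, 0, 11, 0, 3]), (0, [3, 2, 2, 0, 3, 2, 10, 2, 2, 0, 3, 2, 10, 10]), (2, [2, 2, 3, 2, 12, 12, 0, 12, 2, 2, 12, 12, 2, 12])]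

/-- Elements of order divisible by eleven. -/
def outsideWords : List (List Nat) := [[2, 3], [2, 3], [1, 2, 3, 2], [2, 2, 3], [0, 2, 3], [2, 3], [2, 3], [0, 2, 3], [0, 2, 3], [2, 3], [2, 3], [2, 3]]

/-- Elements of order divisible by eleven in two of the groups. -/
def apartWords : List (List Nat) := [[0, 10, 2, 11], [0, 12, 2, 10], [0, 11, 2, 12]]

/-- The transposition conjugates of the monomial generators. -/
def tauWords : List (List Nat) := [[0, 0], [1, 1], [1, 1, 2]]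

end CfsgLib.SUSixFourThree
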