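import Cfsg.Agent.SUSixFourThree.Sylow
import Cfsg.Agent.SUSixFourThree.Data
import Cfsg.Agent.CentralCert.UFourThreeGroup

/-!
# Named elements of SU(6,2) and their codes
-/

set_option autoImplicit false
set_option maxRecDepth 100000
set_option linter.style.haveILetI false

namespace CfsgLib.SUSixFourThree

open Matrix CfsgLib.Unitary CfsgLib.CentralCert CfsgLib.ExtCert
open CfsgLib.CentralCert.UFourThree (c4 dec4)
open CfsgLib.Coset.G24 (F4)

/-- A block diagonal matrix. -/
def blkM (A B : Matrix (Fin 3) (Fin 3) F4) : Matrix (Fin 6) (Fin 6) F4 :=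
  Matrix.of fun i j =>
    if hi : i.val < 3 then (if hj : j.val < 3 then A ⟨i, hi⟩ ⟨j, hj⟩ else 0)
    else (if hj : j.val < 3 then 0 else B ⟨i - 3, by omega⟩ ⟨j - 3, by omega⟩)

theorem blkM_eq (A B : Matrix (Fin 3) (Fin 3) F4) :
    blkM A B = Matrix.reindex finSumFinEquiv finSumFinEquiv (Matrix.fromBlocks A 0 0 B) := by
  refine Matrix.ext fun i j => ?_
  fin_cases i <;> fin_cases j <;> rfl

theorem det_blkM (A B : Matrix (Fin 3) (Fin 3) F4) : (blkM A B).det = A.det * B.det := by
  rw [blkM_eq, Matrix.det_reindex_self, Matrix.det_fromBlocks_zero₂₁]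

theorem blkM_mul (A B C D : Matrix (Fin 3) (Fin 3) F4) : blkM A B * blkM C D = blkM (A * C) (B * D) := by
  simp only [blkM_eq, Matrix.reindex_apply, Matrix.submatrix_mul_equiv, Matrix.fromBlocks_multiply, Matrix.mul_zero,
    Matrix.zero_mul, add_zero, zero_add]

/-- A coset representative in GU(3,2). -/
def rep (a : Fin 4) : Matrix (Fin 3) (Fin 3) F4 :=
  Matrix.of fun i j => dec4 ((repBlocks.getD a.val []).getD (3 * i.val + j.val) 0)

theorem rep_det : ∀ a : Fin 4,
    rep a 0 0 * rep a 1 1 * rep a 2 2 - rep a 0 0 * rep a 1 2 * rep a 2 1 - rep a 0 1 * rep a 1 0 * rep a 2 2 +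
      rep a 0 1 * rep a 1 2 * rep a 2 0 + rep a 0 2 * rep a 1 0 * rep a 2 1 -
      rep a 0 2 * rep a 1 1 * rep a 2 0 = 1 := by decide +kernel

theorem rep_orth : ∀ a b : Fin 4, ∀ i j : Fin 6,
    ∑ k, blkM (rep a) (rep b) k i * blkM (rep a) (rep b) k j ^ 2 = if i = j then 1 else 0 := by decide +kernel

/-- A product of two representatives. -/
def repU (a b : Fin 4) : U :=
  mkU (blkM (rep a) (rep b))
    (by rw [det_blkM, Matrix.det_fin_three, Matrix.det_fin_three, rep_det, rep_det, mul_one]) (rep_orth a b)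

/-- The entries of the conjugating diagonal matrix. -/
def dlt (i : Fin 3) : Fin 6 → F4 := fun x => if x = 0 then dec4 (i.val + 1) else 1

theorem dlt_ne : ∀ (i : Fin 3) (x : Fin 6), dlt i x ≠ 0 := by decide +kernel

/-- The matrix of a conjugate by a diagonal unitary matrix. -/
def cjM (i : Fin 3) (X : Matrix (Fin 6) (Fin 6) F4) : Matrix (Fin 6) (Fin 6) F4 :=
  Matrix.of fun x y => dlt i x * X x y * dlt i y ^ 2

theorem cjM_eq (i : Fin 3) (X : Matrix (Fin 6) (Fin 6) F4) :
    cjM i X = Matrix.diagonal (dlt i) * X * Matrix.diagonal fun y => dlt i y ^ 2 := by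
  refine Matrix.ext fun x y => ?_
  rw [Matrix.mul_diagonal, Matrix.diagonal_mul]
  rfl

theorem cjM_det (i : Fin 3) (g : U) : (cjM i (mat g)).det = 1 := by
  rw [cjM_eq, Matrix.det_mul, Matrix.det_mul, show (mat g).det = 1 from g.1.2, Matrix.det_diagonal,
    Matrix.det_diagonal, mul_one, ← Finset.prod_mul_distrib]
  exact Finset.prod_eq_one fun x _ => cube_one _ (dlt_ne i x)

theorem cjM_orth (i : Fin 3) (g : U) (a b : Fin 6) :
    ∑ k, cjM i (mat g) k a * cjM i (mat g) k b ^ 2 = if a = b then 1 else 0 := by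
  have h : ∀ k, cjM i (mat g) k a * cjM i (mat g) k b ^ 2 =
      (dlt i a ^ 2 * dlt i b) * (mat g k a * mat g k b ^ 2) := fun k => by
    show dlt i k * mat g k a * dlt i a ^ 2 * (dlt i k * mat g k b * dlt i b ^ 2) ^ 2 = _
    rw [mul_pow, mul_pow, sq_sq]
    linear_combination (dlt i a ^ 2 * dlt i b * mat g k a * mat g k b ^ 2) * cube_one _ (dlt_ne i k)
  simp only [h]
  rw [← Finset.mul_sum, col_orth]
  by_cases e : a = b
  · subst e; rw [if_pos rfl, mul_one, mul_comm, cube_one _ (dlt_ne i a)]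
  · rw [if_neg e, mul_zero]

/-- Conjugation by a diagonal unitary matrix. -/
def cj (i : Fin 3) : U →* U :=
  MonoidHom.mk' (fun g => mkU (cjM i (mat g)) (cjM_det i g) (cjM_orth i g)) fun g h => mat_inj (by
    rw [mat_mkU, mat_mul, mat_mul, mat_mkU, mat_mkU, cjM_eq, cjM_eq, cjM_eq]
    have e : (Matrix.diagonal fun y => dlt i y ^ 2) * Matrix.diagonal (dlt i) = 1 := by
      rw [Matrix.diagonal_mul_diagonal, ← Matrix.diagonal_one]
      congr 1
      funext y
      rw [mul_comm, cube_one _ (dlt_ne i y)]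
    calc Matrix.diagonal (dlt i) * (mat g * mat h) * (Matrix.diagonal fun y => dlt i y ^ 2)
        = Matrix.diagonal (dlt i) * mat g * ((Matrix.diagonal fun y => dlt i y ^ 2) * Matrix.diagonal (dlt i)) *
          mat h * (Matrix.diagonal fun y => dlt i y ^ 2) := by rw [e, Matrix.mul_one, Matrix.mul_assoc _ (mat g)]
      _ = _ := by simp only [Matrix.mul_assoc])

theorem cj_injective (i : Fin 3) : Function.Injective (cj i) := fun g h e => mat_inj (Matrix.ext fun x y => by
  have e2 : dlt i x * mat g x y * dlt i y ^ 2 = dlt i x * mat h x y * dlt i y ^ 2 :=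
    congrFun (congrFun (congrArg mat e) x) y
  exact mul_left_cancel₀ (dlt_ne i x) (mul_right_cancel₀ (pow_ne_zero _ (dlt_ne i y)) e2))

theorem IsMon.cj {g : U} {σ : Equiv.Perm (Fin 6)} (h : IsMon g σ) (i : Fin 3) :
    IsMon (SUSixFourThree.cj i g) σ := fun x y e => by
  show dlt i x * mat g x y * dlt i y ^ 2 = 0
  rw [h x y e, mul_zero, zero_mul]

theorem prod_one : ∏ _i : Fin 6, (1 : F4) = 1 := by simp

/-- A diagonal generator. -/
def dm : U := monU 1 (fun x => if x = 0 then .w else if x = 1 then .v else 1) (by decide +kernel)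

/-- A permutation of order three. -/
def pc3 : Equiv.Perm (Fin 6) := Equiv.swap 0 1 * Equiv.swap 1 2

/-- A permutation of order five. -/
def pc5 : Equiv.Perm (Fin 6) :=
  Equiv.swap 1 2 * Equiv.swap 2 3 * Equiv.swap 3 4 * Equiv.swap 4 5

/-- A permutation matrix. -/
def permU (σ : Equiv.Perm (Fin 6)) : U := monU σ (fun _ => 1) prod_one

/-- The transposition. -/
def tau : U := permU (Equiv.swap 0 1)

/-- The element outside the monomial group. -/
def r1 : U := tau * repU 1 1

/-- The diagonal element fixed by the Sylow 3-subgroup. -/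
def z0 : U := monU 1 (fun x => if x.val < 3 then 1 else .w) (by decide +kernel)

/-- The generators by number. -/
def xU : ℕ → U
  | 0 => dm
  | 1 => permU pc3
  | 2 => permU pc5
  | 3 => tau
  | 4 => repU 1 0
  | 5 => repU 2 0
  | 6 => repU 3 0
  | 7 => repU 0 1
  | 8 => repU 0 2
  | 9 => repU 0 3
  | 10 => cj 0 r1
  | 11 => cj 1 r1
  | 12 => cj 2 r1
  | _ => 1

/-- The model of the group. -/
def modelU : Model U ℕ := c4.model matHom mat_inj

theorem xU_code : ∀ k : Fin 13, c4.mcode (mat (xU k.val)) = genCodes.getD k.val modelU.one := by decide +kernel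

theorem genCodes_length : genCodes.length = 13 := rfl

theorem xU_spec (k : ℕ) : modelU.enc (xU k) = genCodes.getD k modelU.one := by
  by_cases h : k < 13
  · exact xU_code ⟨k, h⟩
  · rw [List.getD_eq_default _ _ (by rw [genCodes_length]; omega)]
    obtain ⟨m, rfl⟩ : ∃ m, k = 13 + m := ⟨k - 13, by omega⟩
    rw [Nat.add_comm]
    exact modelU.enc_one

/-- The code of a word. -/
def code (w : List ℕ) : ℕ := tab modelU.one modelU.mul genCodes w

theorem eq_of_code {v w : List ℕ} (h : code v = code w) : ev xU v = ev xU w := modelU.eq_of_tab xU_spec h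

theorem enc_ev (w : List ℕ) : modelU.enc (ev xU w) = code w := modelU.tab_spec xU_spec w

theorem ev_mem {K : Subgroup U} {w : List ℕ} (h : ∀ k ∈ w, xU k ∈ K) : ev xU w ∈ K :=
  Subgroup.list_prod_mem K fun x hx => by
    obtain ⟨k, hk, rfl⟩ := List.mem_map.mp hx
    exact h k hk

/-- A test that the order of a word is divisible by eleven. -/
def elevenOK (w : List ℕ) : Bool :=
  Nat.beq (code (List.replicate 33 w).flatten) modelU.one && !Nat.beq (code (List.replicate 3 w).flatten) modelU.one

theorem ev_replicate (w : List ℕ) : ∀ n, ev xU (List.replicate n w).flatten = ev xU w ^ n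
  | 0 => by simp [ev]
  | n + 1 => by rw [List.replicate_succ, List.flatten_cons, ev_append, ev_replicate w n, pow_succ']

theorem eleven_dvd {w : List ℕ} (h : elevenOK w = true) : 11 ∣ orderOf (ev xU w) := by
  simp only [elevenOK, Bool.and_eq_true, Nat.beq_eq, Bool.not_eq_true'] at h
  have h33 : ev xU w ^ 33 = 1 := modelU.inj (by rw [← ev_replicate, enc_ev, h.1, modelU.enc_one])
  have h3 : ¬ orderOf (ev xU w) ∣ 3 := fun hd => by
    have e := congrArg modelU.enc (orderOf_dvd_iff_pow_eq_one.mp hd)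
    rw [← ev_replicate, enc_ev, modelU.enc_one] at e
    exact absurd (Nat.beq_eq.mpr e) (by rw [h.2]; decide)
  have hmem : orderOf (ev xU w) ∈ Nat.divisors 33 :=
    Nat.mem_divisors.mpr ⟨orderOf_dvd_of_pow_eq_one h33, by norm_num⟩
  rw [show Nat.divisors 33 = {1, 3, 11, 33} by decide] at hmem
  simp only [Finset.mem_insert, Finset.mem_singleton] at hmem
  rcases hmem with e | e | e | e
  · exact absurd (by rw [e]; norm_num) h3
  · exact absurd (by rw [e]) h3
  · rw [e]
  · rw [e]; norm_num

theorem no_eleven {K : Subgroup U} (hK : Nat.card K = 9797760) {w : List ℕ} (h : ∀ k ∈ w, xU k ∈ K)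
    (he : elevenOK w = true) : False := by
  have hd : 11 ∣ Nat.card K := (eleven_dvd he).trans (Subgroup.orderOf_dvd_natCard _ (ev_mem h))
  rw [hK] at hd
  norm_num at hd

end CfsgLib.SUSixFourThree
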