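import Cfsg.Agent.SUSixFourThree.Elems
import Cfsg.Agent.CentralCert.UFourThreeCover

/-!
# Three triple covers of PSU(4,3) in SU(6,2)
-/

set_option autoImplicit false
set_option maxRecDepth 100000
set_option linter.style.haveILetI false

namespace CfsgLib.SUSixFourThree

open Matrix CfsgLib.Unitary CfsgLib.CentralCert CfsgLib.ExtCert
open CfsgLib.CentralCert.UFourThree (c4 dec4 L6 Gam toP liftU liftN lifts_facts mat6 gen fst_gam ker_central proj)
open CfsgLib.Coset.G24 (F4)

/-- An extension of a subgroup by an involution normalising it. -/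
def twoExt (A : Subgroup U) (t : U) (ht : t * t = 1) (hn : ∀ a ∈ A, t * a * t ∈ A) : Subgroup U where
  carrier := {g | g ∈ A ∨ g * t ∈ A}
  one_mem' := Or.inl (one_mem A)
  mul_mem' := by
    rintro a b (ha | ha) (hb | hb)
    · exact Or.inl (mul_mem ha hb)
    · exact Or.inr (by rw [mul_assoc]; exact mul_mem ha hb)
    · refine Or.inr ?_
      have e : a * b * t = a * t * (t * b * t) := by
        simp only [mul_assoc]; rw [← mul_assoc t t, ht, one_mul]
      rw [e]; exact mul_mem ha (hn b hb)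
    · refine Or.inl ?_
      have e : a * b = a * t * (t * (b * t) * t) := by
        simp only [mul_assoc]; rw [ht, mul_one, ← mul_assoc t t, ht, one_mul]
      rw [e]; exact mul_mem ha (hn _ hb)
  inv_mem' := by
    rintro a (ha | ha)
    · exact Or.inl (inv_mem ha)
    · refine Or.inr ?_
      have e : a⁻¹ * t = t * (a * t)⁻¹ * t := by
        rw [_root_.mul_inv_rev, ← mul_assoc t, mul_inv_cancel, one_mul]
      rw [e]; exact hn _ (inv_mem ha)

theorem conj_closure {S : Set U} {A : Subgroup U} {t : U} (ht : t * t = 1) (hA : A = Subgroup.closure S)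
    (h : ∀ s ∈ S, t * s * t ∈ A) : ∀ a ∈ A, t * a * t ∈ A := by
  have hinv : t⁻¹ = t := inv_eq_of_mul_eq_one_right ht
  have hle : A ≤ A.comap (MulAut.conj t).toMonoidHom := by
    conv_lhs => rw [hA]
    rw [Subgroup.closure_le]
    intro s hs
    show t * s * t⁻¹ ∈ A
    rw [hinv]; exact h s hs
  intro a ha
  have h2 : t * a * t⁻¹ ∈ A := hle ha
  rwa [hinv] at h2

theorem monU_mul (σ τ : Equiv.Perm (Fin 6)) (d e : Fin 6 → F4) (hd : ∏ i, d i = 1) (he : ∏ i, e i = 1) :
    mat (monU σ d hd * monU τ e he) = monM (σ * τ) fun i => d i * e (σ⁻¹ i) := by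
  rw [mat_mul, monU, monU, mat_mkU, mat_mkU, monM_mul]

theorem permU_mul (σ τ : Equiv.Perm (Fin 6)) : permU (σ * τ) = permU σ * permU τ := mat_inj (by
  rw [permU, permU, permU, monU_mul, monU, mat_mkU]; simp)

theorem permU_one : permU 1 = 1 := mat_inj (by rw [permU, monU, mat_mkU, monM_one, mat_one])

theorem tau_sq : tau * tau = 1 := by rw [tau, ← permU_mul, Equiv.swap_mul_self, permU_one]

/-- The generators of the monomial subgroup with even permutations. -/
def gensM : Set U := {dm, permU pc3, permU pc5}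

/-- The group they generate. -/
def MG : Subgroup U := Subgroup.closure gensM

theorem gensM_mem : xU 0 ∈ MG ∧ xU 1 ∈ MG ∧ xU 2 ∈ MG :=
  ⟨Subgroup.subset_closure (Or.inl rfl), Subgroup.subset_closure (Or.inr (Or.inl rfl)),
    Subgroup.subset_closure (Or.inr (Or.inr rfl))⟩

theorem tau_words : ∀ k : Fin 3, code [3, k.val, 3] = code (tauWords.getD k.val []) ∧
    ∀ l ∈ tauWords.getD k.val [], l < 3 := by decide +kernel

theorem swap_words : ∀ k : Fin 5, (∀ l ∈ swapWords.getD k.val [], l < 4) ∧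
    c4.mcode (monM (Equiv.swap k.castSucc k.succ) fun _ => 1) = code (swapWords.getD k.val []) := by
  decide +kernel

/-- A generator of the diagonal group. -/
def adjD (k : Fin 5) (i : Fin 6) : F4 := if i = k.castSucc then .w else if i = k.succ then .v else 1

theorem diag_words : ∀ k : Fin 5, (∀ l ∈ diagWords.getD k.val [], l < 3) ∧
    c4.mcode (monM 1 (adjD k)) = code (diagWords.getD k.val []) := by decide +kernel

theorem MG_of_lt {l : ℕ} (h : l < 3) : xU l ∈ MG := by
  interval_cases l
  exacts [gensM_mem.1, gensM_mem.2.1, gensM_mem.2.2]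

theorem tau_normalizes : ∀ a ∈ MG, tau * a * tau ∈ MG := by
  refine conj_closure tau_sq rfl ?_
  have key : ∀ k : Fin 3, tau * xU k.val * tau ∈ MG := fun k => by
    have e := eq_of_code (tau_words k).1
    simp only [ev_cons] at e
    rw [show ev xU [] = (1 : U) from rfl, mul_one, ← mul_assoc] at e
    rw [show xU 3 = tau from rfl] at e
    rw [e]
    exact ev_mem fun l hl => MG_of_lt ((tau_words k).2 l hl)
  rintro s (rfl | rfl | rfl)
  exacts [key 0, key 1, key 2]

/-- The monomial group from generators. -/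
def MT : Subgroup U := twoExt MG tau tau_sq tau_normalizes

theorem MT_of_lt {l : ℕ} (h : l < 4) : xU l ∈ MT := by
  rcases Nat.lt_or_ge l 3 with h3 | h3
  · exact Or.inl (MG_of_lt h3)
  · obtain rfl : l = 3 := by omega
    exact Or.inr (by rw [show xU 3 = tau from rfl, tau_sq]; exact one_mem _)

theorem permU_mem (σ : Equiv.Perm (Fin 6)) : permU σ ∈ MT := by
  have h : σ ∈ Submonoid.closure (Set.range fun i : Fin 5 => Equiv.swap i.castSucc i.succ) := by
    rw [Equiv.Perm.mclosure_swap_castSucc_succ 5]; trivial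
  induction h using Submonoid.closure_induction with
  | mem x hx =>
    obtain ⟨k, rfl⟩ := hx
    have e : permU (Equiv.swap k.castSucc k.succ) = ev xU (swapWords.getD k.val []) :=
      modelU.inj ((swap_words k).2.trans (enc_ev _).symm)
    rw [e]
    exact ev_mem fun l hl => MT_of_lt ((swap_words k).1 l hl)
  | one => rw [permU_one]; exact one_mem _
  | mul x y _ _ hx hy => rw [permU_mul]; exact mul_mem hx hy

/-- The exponent at a place. -/
def expo (d : Fin 6 → F4) (k : Fin 5) : ℕ :=
  match ((List.finRange 6).map fun i => if i.val ≤ k.val then d i else 1).prod with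
  | .w => 1
  | .v => 2
  | _ => 0

theorem diag_expand : ∀ d : Fin 6 → F4, ∏ i, d i = 1 → ∀ i,
    d i = adjD 0 i ^ expo d 0 * (adjD 1 i ^ expo d 1 * (adjD 2 i ^ expo d 2 * (adjD 3 i ^ expo d 3 *
      adjD 4 i ^ expo d 4))) := by decide +kernel

theorem diag_mem {g : U} (hg : IsMon g 1) : g ∈ MG := by
  let S : Submonoid (Fin 6 → F4) :=
    { carrier := {d | ∃ x ∈ MG, mat x = monM 1 d}
      one_mem' := ⟨1, one_mem _, by rw [mat_one]; exact monM_one.symm⟩
      mul_mem' := fun {a b} ⟨x, hx, ex⟩ ⟨y, hy, ey⟩ =>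
        ⟨x * y, mul_mem hx hy, by rw [mat_mul, ex, ey, monM_mul, one_mul]; rfl⟩ }
  have hk : ∀ k, adjD k ∈ S := fun k =>
    ⟨ev xU (diagWords.getD k.val []), ev_mem fun l hl => MG_of_lt ((diag_words k).1 l hl),
      c4.mcode_injective ((diag_words k).2.trans (enc_ev _).symm).symm⟩
  have hd := diag_expand (fun i => mat g i i) (by simpa using hg.prod)
  obtain ⟨x, hx, ex⟩ : (fun i => mat g i i) ∈ S := by
    set d := fun i => mat g i i
    rw [show d = adjD 0 ^ expo d 0 * (adjD 1 ^ expo d 1 * (adjD 2 ^ expo d 2 * (adjD 3 ^ expo d 3 *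
      adjD 4 ^ expo d 4))) from funext hd]
    exact mul_mem (pow_mem (hk _) _) (mul_mem (pow_mem (hk _) _) (mul_mem (pow_mem (hk _) _)
      (mul_mem (pow_mem (hk _) _) (pow_mem (hk _) _))))
  have e : g = x := mat_inj (by
    rw [ex]
    conv_lhs => rw [hg.eq]
    simp)
  exact e ▸ hx

theorem MonS_le_MT : MonS ≤ MT := by
  rintro g ⟨σ, hg⟩
  have h1 : IsMon (g * (permU σ)⁻¹) 1 := by
    have := hg.mul (monU_isMon σ _ prod_one).inv
    rwa [mul_inv_cancel] at this
  have h2 : g * (permU σ)⁻¹ ∈ MT := Or.inl (diag_mem h1)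
  have h3 := mul_mem h2 (permU_mem σ)
  rwa [inv_mul_cancel_right] at h3

theorem MG_le_MM : MG ≤ MM := by
  rw [MG, Subgroup.closure_le]
  rintro s (rfl | rfl | rfl) <;> refine mem_monOver.mpr ⟨_, ?_, monU_isMon _ _ _⟩
  · exact one_mem _
  · exact Equiv.Perm.mem_alternatingGroup.mpr (by decide +kernel)
  · exact Equiv.Perm.mem_alternatingGroup.mpr (by decide +kernel)

theorem tau_not_MM : tau ∉ MM := fun h => by
  obtain ⟨σ, hσ, hm⟩ := mem_monOver.mp h
  rw [← (monU_isMon _ _ prod_one).unique hm] at hσ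
  exact absurd (Equiv.Perm.mem_alternatingGroup.mp hσ) (by decide +kernel)

theorem MM_eq : MM = MG := by
  refine le_antisymm (fun g hg => ?_) MG_le_MM
  obtain ⟨σ, -, hm⟩ := mem_monOver.mp hg
  rcases MonS_le_MT ⟨σ, hm⟩ with h | h
  · exact h
  · have h2 := mul_mem (inv_mem hg) (MG_le_MM h)
    rw [inv_mul_cancel_left] at h2
    exact absurd h2 tau_not_MM

/-- The generators of one of the groups. -/
def gensK (i : Fin 3) : Set U := gensM ∪ {cj i r1}

/-- One of the three groups. -/
def Kc (i : Fin 3) : Subgroup U := Subgroup.closure (gensK i)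

theorem MM_le_Kc (i : Fin 3) : MM ≤ Kc i := MM_eq ▸ Subgroup.closure_mono Set.subset_union_left

theorem rr_mem (i : Fin 3) : xU (10 + i.val) ∈ Kc i :=
  Subgroup.subset_closure (Or.inr (by fin_cases i <;> rfl))

theorem Kc_of {i : Fin 3} {l : ℕ} (h : l < 3 ∨ l = 10 + i.val) : xU l ∈ Kc i := by
  rcases h with h | rfl
  · exact Subgroup.closure_mono Set.subset_union_left (MG_of_lt h)
  · exact rr_mem i

theorem norm_words : ∀ i : Fin 3, code [3, 10 + i.val, 3] = code (normWords.getD i.val []) ∧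
    ∀ l ∈ normWords.getD i.val [], l < 3 ∨ l = 10 + i.val := by decide +kernel

theorem tau_normalizes_Kc (i : Fin 3) : ∀ a ∈ Kc i, tau * a * tau ∈ Kc i := by
  refine conj_closure tau_sq rfl ?_
  rintro s (hs | rfl)
  · exact Subgroup.closure_mono Set.subset_union_left (tau_normalizes s (Subgroup.subset_closure hs))
  · have e := eq_of_code (norm_words i).1
    simp only [ev_cons] at e
    rw [show ev xU [] = (1 : U) from rfl, mul_one, ← mul_assoc, show xU 3 = tau from rfl] at e
    rw [show cj i r1 = xU (10 + i.val) by fin_cases i <;> rfl, e]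
    exact ev_mem fun l hl => Kc_of ((norm_words i).2 l hl)

theorem cj_zero (g : U) : cj 0 g = g := mat_inj (Matrix.ext fun x y => by
  show dlt 0 x * mat g x y * dlt 0 y ^ 2 = mat g x y
  rw [show dlt 0 x = 1 by revert x; decide, show dlt 0 y = 1 by revert y; decide, one_mul, one_pow, mul_one])

theorem cj_MM (i : Fin 3) : MM.map (cj i) = MM :=
  Subgroup.eq_of_le_of_card_ge (by
    rintro _ ⟨g, hg, rfl⟩
    obtain ⟨σ, hσ, hm⟩ := mem_monOver.mp hg
    exact mem_monOver.mpr ⟨σ, hσ, hm.cj i⟩)
    (le_of_eq (Subgroup.card_map_of_injective (cj_injective i)).symm)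

theorem Kc_eq_map (i : Fin 3) : Kc i = (Kc 0).map (cj i) := by
  have h0 : gensM ⊆ (MM : Set U) := fun s hs => MM_eq ▸ Subgroup.subset_closure hs
  have hr : cj i r1 ∈ (Kc 0).map (cj i) :=
    ⟨r1, cj_zero r1 ▸ Subgroup.subset_closure (Or.inr rfl), rfl⟩
  refine le_antisymm ?_ ?_
  · rw [Kc, Subgroup.closure_le]
    rintro s (hs | rfl)
    · have h := h0 hs
      rw [← cj_MM i] at h
      exact Subgroup.map_mono (MM_le_Kc 0) h
    · exact hr
  · rw [Kc, MonoidHom.map_closure, Subgroup.closure_le]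
    rintro _ ⟨s, hs | rfl, rfl⟩
    · exact MM_le_Kc i (cj_MM i ▸ Subgroup.mem_map_of_mem _ (h0 hs))
    · rw [cj_zero r1]; exact Subgroup.subset_closure (Or.inr rfl)

theorem center_le_DU : Subgroup.center U ≤ DU := fun z hz => by
  obtain ⟨c, hc⟩ := (mem_center_SU_iff hF (by norm_num)).mp hz
  refine mem_DU.mpr fun i j e => ?_
  rw [show mat z = c • 1 from hc, Matrix.smul_apply, Matrix.one_apply, if_neg (fun h => e h.symm), smul_zero]

theorem card_center : Nat.card (Subgroup.center U) = 3 := by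
  rw [card_center_SU hF (by norm_num)]; rfl

theorem center_map {K : Subgroup U} (hK : MM ≤ K) : (Subgroup.center K).map K.subtype = Subgroup.center U := by
  refine le_antisymm ?_ fun z hz =>
    ⟨⟨z, hK (DU_le_MM (center_le_DU hz))⟩, Subgroup.mem_center_iff.mpr fun g =>
      Subtype.ext (Subgroup.mem_center_iff.mp hz g.1), rfl⟩
  rintro _ ⟨x, hx, rfl⟩
  have hcom : ∀ g ∈ MM, g * x.1 = x.1 * g := fun g hg =>
    congrArg Subtype.val (Subgroup.mem_center_iff.mp hx ⟨g, hK hg⟩)
  obtain ⟨σ, hm⟩ := mem_MonS_of_normalizes (g := x.1) fun d hd => by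
    rw [mul_assoc, hcom d (DU_le_MM hd), inv_mul_cancel_left]; exact hd
  have hfix : ∀ g ∈ DU, ∀ j, mat g (σ j) (σ j) = mat g j j := fun g hg j => by
    have e := congrFun (congrFun (congrArg mat (hcom g (DU_le_MM hg))) (σ j)) j
    have h := mem_DU.mp hg
    rw [mat_mul, mat_mul, Matrix.mul_apply, Matrix.mul_apply,
      Finset.sum_eq_single (σ j) (fun k _ hk => by rw [h (σ j) k hk, zero_mul]) (by simp),
      Finset.sum_eq_single j (fun k _ hk => by rw [h k j (Ne.symm hk), mul_zero]) (by simp), mul_comm] at e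
    exact mul_left_cancel₀ (hm.ne j) e
  have hσ : σ = 1 := by
    refine Equiv.ext fun j => by_contra fun hne => ?_
    obtain ⟨d, hd, hdne⟩ : ∃ d : Fin 6 → F4, (∏ i, d i = 1) ∧ d (σ j) ≠ d j := by
      have : ∀ a b : Fin 6, a ≠ b → ∃ k : Fin 5, adjD k a ≠ adjD k b ∧ ∏ i, adjD k i = 1 := by decide +kernel
      obtain ⟨k, h1, h2⟩ := this _ _ hne
      exact ⟨_, h2, h1⟩
    have := hfix _ (mem_DU.mpr (monU_isMon 1 d hd)) j
    rw [monU, mat_mkU, monM_apply, monM_apply, Equiv.Perm.one_apply, Equiv.Perm.one_apply, if_pos rfl,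
      if_pos rfl] at this
    exact hdne this
  subst hσ
  have hconst : ∀ ρ ∈ alternatingGroup (Fin 6), ∀ j, mat x.1 (ρ j) (ρ j) = mat x.1 j j := fun ρ hρ j => by
    have e := congrFun (congrFun (congrArg mat
      (hcom _ (mem_monOver.mpr ⟨ρ, hρ, monU_isMon ρ _ prod_one⟩))) (ρ j)) j
    rw [mat_mul, mat_mul, Matrix.mul_apply, Matrix.mul_apply,
      Finset.sum_eq_single j (fun k _ hk => by rw [hm k j (Ne.symm hk), mul_zero]) (by simp),
      Finset.sum_eq_single (ρ j) (fun k _ hk => by rw [hm (ρ j) k hk, zero_mul]) (by simp),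
      monU, mat_mkU, monM_apply, if_pos rfl, one_mul, mul_one] at e
    exact e.symm
  have htrans : ∀ j : Fin 6, ∃ ρ : Fin 5, ∃ e : Fin 6, (pc5 ^ ρ.val * pc3 ^ e.val) 0 = j := by decide +kernel
  refine (mem_center_SU_iff hF (by norm_num)).mpr ⟨mat x.1 0 0, ?_⟩
  show mat x.1 = _
  refine Matrix.ext fun i j => ?_
  rw [Matrix.smul_apply, Matrix.one_apply]
  by_cases h : i = j
  · subst h
    obtain ⟨a, b, rfl⟩ := htrans i
    have hmem : pc5 ^ a.val * pc3 ^ b.val ∈ alternatingGroup (Fin 6) :=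
      mul_mem (pow_mem (Equiv.Perm.mem_alternatingGroup.mpr (by decide +kernel)) _)
        (pow_mem (Equiv.Perm.mem_alternatingGroup.mpr (by decide +kernel)) _)
    rw [if_pos rfl, smul_eq_mul, mul_one, hconst _ hmem 0]
  · rw [if_neg h, smul_zero]; exact hm i j (fun e => h e.symm)

/-- The matrices as units. -/
def jU : U →* L6 := matHom.toHomUnits

theorem jU_val (g : U) : ((jU g : L6) : Matrix (Fin 6) (Fin 6) F4) = mat g := rfl

theorem jU_injective : Function.Injective jU := fun a b h => mat_inj (congrArg Units.val h :)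

/-- The second component. -/
def sideHom : Gam →* L6 :=
  ((Pi.evalMonoidHom _ false).comp (MonoidHom.snd CfsgLib.CentralCert.UFourThree.S (Bool → L6))).comp Gam.subtype

theorem lift_words : ∀ l : Fin 6, code (liftWords.getD l.val []) = liftN false l ∧
    ∀ k ∈ liftWords.getD l.val [], k < 3 ∨ k = 10 := by decide +kernel

/-- A lift inside the unitary group. -/
def hU (l : ℕ) : U := ev xU (liftWords.getD l [])

theorem jU_hU (l : Fin 6) : jU (hU l.val) = liftU false l := Units.ext (c4.mcode_injective (by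
  show modelU.enc (hU l.val) = c4.mcode (mat6 (liftN false l))
  rw [hU, enc_ev, (lift_words l).1, (lifts_facts false l).1]))

theorem gen_words : ∀ k : Fin 4, tab modelU.one modelU.mul (liftWords.map code) (genWords.getD k.val []) =
      code [[0, 1, 2, 10].getD k.val 0] ∧ ∀ l ∈ genWords.getD k.val [], l < 6 := by decide +kernel

theorem hU_spec (l : ℕ) : modelU.enc (hU l) = (liftWords.map code).getD l modelU.one := by
  rw [hU, enc_ev, show modelU.one = code [] from rfl, List.getD_map]

theorem sideHom_range : sideHom.range = (Kc 0).map jU := by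
  have hr : sideHom.range = Subgroup.closure (Set.range (liftU false)) := by
    rw [sideHom, MonoidHom.range_comp, Subgroup.range_subtype, Gam, MonoidHom.map_closure, ← Set.range_comp]
    rfl
  rw [hr]
  refine le_antisymm ?_ ?_
  · rw [Subgroup.closure_le]
    rintro _ ⟨l, rfl⟩
    exact ⟨hU l.val, ev_mem fun k hk => Kc_of (i := 0) ((lift_words l).2 k hk), jU_hU l⟩
  · rw [Kc, MonoidHom.map_closure, Subgroup.closure_le]
    have key : ∀ k : Fin 4, jU (xU ([0, 1, 2, 10].getD k.val 0)) ∈ Subgroup.closure (Set.range (liftU false)) := by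
      intro k
      have e : ev hU (genWords.getD k.val []) = xU ([0, 1, 2, 10].getD k.val 0) := modelU.inj (by
        rw [modelU.tab_spec hU_spec, (gen_words k).1, ← enc_ev]; simp [ev])
      rw [← e]
      suffices ∀ w : List ℕ, (∀ l ∈ w, l < 6) → jU (ev hU w) ∈ Subgroup.closure (Set.range (liftU false)) from
        this _ (gen_words k).2
      intro w
      induction w with
      | nil => intro _; simp [ev]
      | cons a w ih =>
        intro hw
        rw [ev_cons, map_mul]
        refine mul_mem (Subgroup.subset_closure ⟨⟨a, hw a List.mem_cons_self⟩, (jU_hU _).symm⟩)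
          (ih fun l hl => hw l (List.mem_cons_of_mem a hl))
    rintro _ ⟨s, (rfl | rfl | rfl) | rfl, rfl⟩
    exacts [key 0, key 1, key 2, key 3]

theorem nonabelian : code [0, 1] ≠ code [1, 0] := by decide +kernel

theorem quot_iso_zero : Nonempty (CfsgLib.CentralCert.UFourThree.P ≃* ↥(Kc 0) ⧸ Subgroup.center ↥(Kc 0)) := by
  let e := (Kc 0).equivMapOfInjective jU jU_injective
  let Θ : Gam →* Kc 0 :=
    e.symm.toMonoidHom.comp ((MulEquiv.subgroupCongr sideHom_range).toMonoidHom.comp sideHom.rangeRestrict)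
  have hΘ : Function.Surjective Θ :=
    Function.Surjective.comp (g := ⇑e.symm) e.symm.surjective
      (Function.Surjective.comp (g := ⇑(MulEquiv.subgroupCongr sideHom_range)) (MulEquiv.surjective _)
        sideHom.rangeRestrict_surjective)
  let π : Gam →* CfsgLib.CentralCert.UFourThree.P := toP.comp Gam.subtype
  have hπ : Function.Surjective π := fun p => by
    obtain ⟨s, rfl⟩ := QuotientGroup.mk_surjective p
    obtain ⟨x, hx, rfl⟩ := fst_gam s
    exact ⟨⟨x, hx⟩, rfl⟩
  let φ : Gam →* ↥(Kc 0) ⧸ Subgroup.center ↥(Kc 0) := (QuotientGroup.mk' _).comp Θ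
  have hker : π.ker ≤ φ.ker := fun x hx => by
    rw [MonoidHom.mem_ker]
    refine (QuotientGroup.eq_one_iff _).mpr (Subgroup.mem_center_iff.mpr fun k => ?_)
    obtain ⟨y, rfl⟩ := hΘ k
    rw [← map_mul, ← map_mul]
    exact congrArg Θ (Subtype.ext (ker_central x.2 hx y.1))
  let ψ : CfsgLib.CentralCert.UFourThree.P →* ↥(Kc 0) ⧸ Subgroup.center ↥(Kc 0) :=
    (QuotientGroup.lift π.ker φ hker).comp (QuotientGroup.quotientKerEquivOfSurjective π hπ).symm.toMonoidHom
  have hφ : Function.Surjective φ := (QuotientGroup.mk'_surjective _).comp hΘ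
  have hψ : Function.Surjective ψ :=
    Function.Surjective.comp (g := ⇑(QuotientGroup.lift π.ker φ hker))
      (f := ⇑(QuotientGroup.quotientKerEquivOfSurjective π hπ).symm)
      (QuotientGroup.lift_surjective_of_surjective _ _ hφ hker) (MulEquiv.surjective _)
  haveI : IsSimpleGroup CfsgLib.CentralCert.UFourThree.P :=
    isSimpleGroup_PSU CfsgLib.J2.Perm.hF (by norm_num) (by norm_num)
  rcases (MonoidHom.normal_ker ψ).eq_bot_or_eq_top with h | h
  · exact ⟨MulEquiv.ofBijective ψ ⟨(MonoidHom.ker_eq_bot_iff ψ).mp h, hψ⟩⟩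
  · exfalso
    refine nonabelian ?_
    have hc : (⟨xU 0, Kc_of (Or.inl (by norm_num))⟩ : Kc 0) ∈ Subgroup.center ↥(Kc 0) := by
      refine (QuotientGroup.eq_one_iff _).mp ?_
      obtain ⟨p, hp⟩ := hψ (QuotientGroup.mk (⟨xU 0, Kc_of (Or.inl (by norm_num))⟩ : Kc 0))
      rw [← hp, ← MonoidHom.mem_ker, h]; trivial
    have e : xU 1 * xU 0 = xU 0 * xU 1 :=
      congrArg Subtype.val (Subgroup.mem_center_iff.mp hc ⟨xU 1, Kc_of (Or.inl (by norm_num))⟩)
    rw [← enc_ev, ← enc_ev]
    simp only [ev, List.map_cons, List.map_nil, List.prod_cons, List.prod_nil, mul_one, e]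

theorem card_center_Kc (i : Fin 3) : Nat.card (Subgroup.center ↥(Kc i)) = 3 := by
  rw [← card_center, ← center_map (MM_le_Kc i), Subgroup.card_subtype]

theorem quot_iso (i : Fin 3) : Nonempty (↥(Kc i) ⧸ Subgroup.center ↥(Kc i) ≃* CfsgLib.CentralCert.UFourThree.P) := by
  obtain ⟨e0⟩ := quot_iso_zero
  let e : Kc 0 ≃* Kc i :=
    ((Kc 0).equivMapOfInjective (cj i) (cj_injective i)).trans (MulEquiv.subgroupCongr (Kc_eq_map i).symm)
  exact ⟨(e0.trans (QuotientGroup.congr _ _ e (map_center_eq e))).symm⟩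
where
  map_center_eq {G H : Type} [Group G] [Group H] (e : G ≃* H) :
      (Subgroup.center G).map e.toMonoidHom = Subgroup.center H := by
    ext x
    obtain ⟨y, rfl⟩ := e.surjective x
    rw [Subgroup.mem_map_equiv, e.symm_apply_apply, Subgroup.mem_center_iff, Subgroup.mem_center_iff]
    exact ⟨fun h g => by obtain ⟨g, rfl⟩ := e.surjective g; rw [← map_mul, ← map_mul, h],
      fun h g => e.injective (by rw [map_mul, map_mul, h])⟩

theorem card_Kc (i : Fin 3) : Nat.card (Kc i) = 9797760 := by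
  obtain ⟨e⟩ := quot_iso i
  rw [Subgroup.card_eq_card_quotient_mul_card_subgroup (Subgroup.center ↥(Kc i)), Nat.card_congr e.toEquiv,
    card_center_Kc, CfsgLib.CentralCert.UFourThree.card_P]

end CfsgLib.SUSixFourThree
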