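import Cfsg.Agent.SUSixFourThree.Groups

/-!
# Coset representatives of the monomial group in GU(3,2)
-/

set_option autoImplicit false
set_option maxRecDepth 100000
set_option linter.style.haveILetI false

namespace CfsgLib.SUSixFourThree

open Matrix CfsgLib.Unitary CfsgLib.CentralCert CfsgLib.ExtCert
open CfsgLib.CentralCert.UFourThree (c4 dec4)
open CfsgLib.Coset.G24 (F4)

/-- The form on three coordinates. -/
def dot3 (u v : Fin 3 → F4) : F4 := u 0 * (v 0 * v 0) + u 1 * (v 1 * v 1) + u 2 * (v 2 * v 2)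

/-- The unit vectors. -/
def vlist : List (Fin 3 → F4) :=
  ((List.range 64).map fun k (i : Fin 3) => dec4 (k / 4 ^ i.val % 4)).filter fun u => dot3 u u == 1

theorem vlist_all : ∀ u : Fin 3 → F4, dot3 u u = 1 → ∃ k : Fin 36, vlist.getD k.val 0 = u := by decide +kernel

theorem vlist_length : vlist.length = 36 := by decide +kernel

/-- The matrix with three columns times an inverse representative. -/
def prodRep (a b c : Fin 3 → F4) (r : Fin 4) (i j : Fin 3) : F4 :=
  a i * (rep r j 0 * rep r j 0) + b i * (rep r j 1 * rep r j 1) + c i * (rep r j 2 * rep r j 2)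

/-- At most one entry in a column. -/
def colOne (a b c : Fin 3 → F4) (r : Fin 4) (j : Fin 3) : Bool :=
  ((prodRep a b c r 0 j == 0) || (prodRep a b c r 1 j == 0)) &&
    ((prodRep a b c r 0 j == 0) || (prodRep a b c r 2 j == 0)) &&
    ((prodRep a b c r 1 j == 0) || (prodRep a b c r 2 j == 0))

theorem triples_ok : (vlist.all fun a => vlist.all fun b => !(dot3 a b == 0) ||
    vlist.all fun c => !(dot3 a c == 0) || !(dot3 b c == 0) ||
      (List.finRange 4).any fun r => colOne a b c r 0 && colOne a b c r 1 && colOne a b c r 2) = true := by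
  decide +kernel

theorem exists_rep (A : Matrix (Fin 3) (Fin 3) F4)
    (h : ∀ i j, dot3 (fun k => A k i) (fun k => A k j) = if i = j then 1 else 0) :
    ∃ r : Fin 4, ∀ i k j, (A * (rep r)ᵀ.map (· ^ 2)) i j ≠ 0 → (A * (rep r)ᵀ.map (· ^ 2)) k j ≠ 0 → i = k := by
  have hm : ∀ j, (fun k => A k j) ∈ vlist := fun j => by
    obtain ⟨k, hk⟩ := vlist_all _ ((h j j).trans (if_pos rfl))
    rw [← hk, List.getD_eq_getElem _ _ (by rw [vlist_length]; exact k.2)]
    exact List.getElem_mem _
  have t1 := List.all_eq_true.mp triples_ok _ (hm 0)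
  have t2 := List.all_eq_true.mp t1 _ (hm 1)
  simp only [Bool.or_eq_true, Bool.not_eq_true', beq_eq_false_iff_ne, ne_eq] at t2
  have t3 := t2.resolve_left (fun e => e ((h 0 1).trans (if_neg (by decide))))
  have t4 := List.all_eq_true.mp t3 _ (hm 2)
  simp only [Bool.or_eq_true, Bool.not_eq_true', beq_eq_false_iff_ne, ne_eq] at t4
  rcases t4 with (e | e) | t5
  · exact absurd ((h 0 2).trans (if_neg (by decide))) e
  · exact absurd ((h 1 2).trans (if_neg (by decide))) e
  obtain ⟨r, -, hr⟩ := List.any_eq_true.mp t5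
  refine ⟨r, ?_⟩
  have hp : ∀ i j, (A * (rep r)ᵀ.map (· ^ 2)) i j = prodRep (fun k => A k 0) (fun k => A k 1) (fun k => A k 2) r i j :=
    fun i j => by simp [Matrix.mul_apply, Fin.sum_univ_three, prodRep, pow_two]
  simp only [colOne, Bool.and_eq_true, Bool.or_eq_true, beq_iff_eq] at hr
  intro i k j hi hk
  rw [hp] at hi hk
  obtain ⟨⟨h0, h1⟩, h2⟩ := hr
  fin_cases j <;> fin_cases i <;> fin_cases k <;> simp_all

end CfsgLib.SUSixFourThree
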