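import Cfsg.Agent.SUSixFourThree.Basic
import Mathlib.GroupTheory.PGroup

/-!
# A Sylow 3-subgroup of SU(6,2) and its diagonal subgroup
-/

set_option autoImplicit false
set_option maxRecDepth 100000
set_option linter.style.haveILetI false

namespace CfsgLib.SUSixFourThree

open Matrix CfsgLib.Unitary
open CfsgLib.Coset.G24 (F4)

/-- Commuting modulo the centre. -/
def CommZ (a b : U) : Prop := ∃ z ∈ Subgroup.center U, a * b = z * (b * a)

theorem CommZ.mat_eq {a b : U} (h : CommZ a b) : ∃ c : F4, mat a * mat b = c • (mat b * mat a) := by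
  obtain ⟨z, hz, e⟩ := h
  obtain ⟨c, hc⟩ := (mem_center_SU_iff hF (by norm_num)).mp hz
  refine ⟨c, ?_⟩
  rw [← mat_mul, ← mat_mul, e, mat_mul, show mat z = c • 1 from hc, Matrix.smul_mul, one_mul]

/-- A cycle on the first three indices. -/
def s1 : Equiv.Perm (Fin 6) := Equiv.swap 0 1 * Equiv.swap 1 2

/-- A cycle on the last three indices. -/
def s2 : Equiv.Perm (Fin 6) := Equiv.swap 3 4 * Equiv.swap 4 5

/-- The Sylow 3-subgroup of the symmetric group. -/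
def P9 : Subgroup (Equiv.Perm (Fin 6)) := Subgroup.centralizer ({s1, s2} : Set (Equiv.Perm (Fin 6)))

theorem mem_P9 {σ : Equiv.Perm (Fin 6)} : σ ∈ P9 ↔ s1 * σ = σ * s1 ∧ s2 * σ = σ * s2 := by
  rw [P9, Subgroup.mem_centralizer_iff]; simp

theorem p9_count :
    Fintype.card {σ : Equiv.Perm (Fin 6) // s1 * σ = σ * s1 ∧ s2 * σ = σ * s2} = 9 := by decide +kernel

theorem p9_list : ∀ σ : Equiv.Perm (Fin 6), s1 * σ = σ * s1 → s2 * σ = σ * s2 →
    Equiv.Perm.sign σ = 1 ∧ ∃ a b : Fin 3, σ = s1 ^ a.val * s2 ^ b.val := by decide +kernel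

theorem card_P9 : Nat.card P9 = 9 := by
  rw [Nat.card_congr (Equiv.subtypeEquivRight fun σ => mem_P9), Nat.card_eq_fintype_card, p9_count]

/-- The Sylow 3-subgroup. -/
noncomputable def Pt : Subgroup U := monOver P9

theorem card_Pt : Nat.card Pt = 3 ^ 7 := by rw [Pt, card_monOver, card_P9]; norm_num

theorem Pt_le_MM : Pt ≤ MM := monOver_mono fun σ hσ => by
  obtain ⟨h1, h2⟩ := mem_P9.mp hσ
  exact Equiv.Perm.mem_alternatingGroup.mpr (p9_list σ h1 h2).1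

theorem DU_le_Pt : DU ≤ Pt := monOver_mono bot_le

/-- The diagonals fixed by a permutation up to a scalar. -/
abbrev Fix (σ : Equiv.Perm (Fin 6)) (d : Fin 6 → F4) : Prop := ∃ c : F4, ∀ j, d j = c * d (σ j)

theorem fix_count : ∀ a b : Fin 3, (a ≠ 0 ∨ b ≠ 0) →
    Fintype.card {d : Fin 6 → F4 // (∏ i, d i = 1) ∧ Fix (s1 ^ a.val * s2 ^ b.val) d} ≤ 27 := by decide +kernel

theorem fix_two : ∀ d : Fin 6 → F4, (∏ i, d i = 1) → Fix s1 d → Fix s2 d →
    d 1 = d 0 ∧ d 2 = d 0 ∧ d 4 = d 3 ∧ d 5 = d 3 := by decide +kernel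

theorem fix_two_count :
    Fintype.card {d : Fin 6 → F4 // (∏ i, d i = 1) ∧ Fix s1 d ∧ Fix s2 d} ≤ 9 := by decide +kernel

theorem fix_of_comm {b d : U} {σ : Equiv.Perm (Fin 6)} (hb : IsMon b σ) (hd : IsMon d 1) (h : CommZ b d) :
    Fix σ fun i => mat d i i := by
  obtain ⟨c, hc⟩ := h.mat_eq
  refine ⟨c, fun j => mul_left_cancel₀ (hb.ne j) ?_⟩
  have e := congrFun (congrFun hc (σ j)) j
  rw [Matrix.smul_apply, Matrix.mul_apply, Matrix.mul_apply,
    Finset.sum_eq_single j (fun k _ hk => by rw [hd k j (Ne.symm hk), mul_zero]) (by simp),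
    Finset.sum_eq_single (σ j) (fun k _ hk => by rw [hd (σ j) k hk, zero_mul]) (by simp), smul_eq_mul] at e
  exact e.trans (by ring)

theorem eq_DU (B : Subgroup U) (hle : B ≤ Pt) (hcard : Nat.card B = 243)
    (hcom : ∀ a ∈ B, ∀ b ∈ B, CommZ a b) : B = DU := by
  classical
  have hB : ∀ b : B, ∃ σ ∈ P9, IsMon b.1 σ := fun b => mem_monOver.mp (hle b.2)
  let inc : B →* MonS := Subgroup.inclusion fun x hx => by
    obtain ⟨σ, -, h⟩ := hB ⟨x, hx⟩; exact ⟨σ, h⟩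
  let f : B →* Equiv.Perm (Fin 6) := perm.comp inc
  have hf : ∀ b : B, f b ∈ P9 ∧ IsMon b.1 (f b) := fun b => by
    obtain ⟨σ, hσ, h⟩ := hB b
    have e : f b = σ := perm_eq (g := inc b) h
    exact ⟨e ▸ hσ, e ▸ h⟩
  have hker : ∀ k : f.ker, IsMon k.1.1 1 := fun k => (MonoidHom.mem_ker.mp k.2) ▸ (hf k.1).2
  have hr : f.range ≤ P9 := by rintro _ ⟨b, rfl⟩; exact (hf b).1
  have hsplit : Nat.card B = Nat.card f.range * Nat.card f.ker := by
    rw [Subgroup.card_eq_card_quotient_mul_card_subgroup f.ker,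
      Nat.card_congr (QuotientGroup.quotientKerEquivRange f).toEquiv]
  let emb : f.ker → {d : Fin 6 → F4 // ∏ i, d i = 1} := fun k => DUEquiv ⟨k.1.1, mem_DU.mpr (hker k)⟩
  have hemb : Function.Injective emb := fun a b h =>
    Subtype.ext (Subtype.ext (congrArg (fun x : DU => (x : U)) (DUEquiv.injective h)))
  have hfix : ∀ (b : B) (k : f.ker), Fix (f b) (emb k).1 := fun b k =>
    fix_of_comm (hf b).2 (hker k) (hcom _ b.2 _ k.1.2)
  have hdvd : Nat.card f.range ∣ 9 := card_P9 ▸ Subgroup.card_dvd_of_le hr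
  obtain ⟨e, he, hne⟩ := (Nat.dvd_prime_pow Nat.prime_three).mp (show Nat.card f.range ∣ 3 ^ 2 from hdvd)
  interval_cases e
  · have hbot : f.range = ⊥ := Subgroup.eq_bot_of_card_le _ (le_of_eq hne)
    refine Subgroup.eq_of_le_of_card_ge (fun x hx => mem_DU.mpr ?_) (le_of_eq (card_DU.trans hcard.symm))
    have h1 : f ⟨x, hx⟩ = 1 := Subgroup.mem_bot.mp (hbot ▸ ⟨⟨x, hx⟩, rfl⟩)
    have h2 := (hf ⟨x, hx⟩).2
    rw [h1] at h2
    exact h2
  · exfalso
    have hnb : f.range ≠ ⊥ := fun h => by rw [h, Subgroup.card_bot] at hne; norm_num at hne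
    obtain ⟨σ, ⟨b, hb⟩, hσ1⟩ := f.range.bot_or_exists_ne_one.resolve_left hnb
    obtain ⟨h1, h2⟩ := mem_P9.mp (hb ▸ (hf b).1)
    obtain ⟨-, a, c, rfl⟩ := p9_list σ h1 h2
    have hac : a ≠ 0 ∨ c ≠ 0 := by
      by_contra h
      simp only [not_or, not_not] at h
      exact hσ1 (by rw [h.1, h.2]; rfl)
    have hle27 := le_trans (Nat.card_le_card_of_injective
      (fun k => (⟨(emb k).1, (emb k).2, hb ▸ hfix b k⟩ :
        {d : Fin 6 → F4 // (∏ i, d i = 1) ∧ Fix (s1 ^ a.val * s2 ^ c.val) d}))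
      (fun x y h => hemb (Subtype.ext (congrArg Subtype.val h :))))
      (le_of_eq_of_le Nat.card_eq_fintype_card (fix_count a c hac))
    rw [hcard, hne] at hsplit
    omega
  · exfalso
    have heq : f.range = P9 := Subgroup.eq_of_le_of_card_ge hr (by rw [card_P9, hne]; norm_num)
    obtain ⟨b1, hb1⟩ : s1 ∈ f.range := heq ▸ mem_P9.mpr ⟨rfl, by decide +kernel⟩
    obtain ⟨b2, hb2⟩ : s2 ∈ f.range := heq ▸ mem_P9.mpr ⟨by decide +kernel, rfl⟩
    have hle9 := le_trans (Nat.card_le_card_of_injective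
      (fun k => (⟨(emb k).1, (emb k).2, hb1 ▸ hfix b1 k, hb2 ▸ hfix b2 k⟩ :
        {d : Fin 6 → F4 // (∏ i, d i = 1) ∧ Fix s1 d ∧ Fix s2 d}))
      (fun x y h => hemb (Subtype.ext (congrArg Subtype.val h :))))
      (le_of_eq_of_le Nat.card_eq_fintype_card fix_two_count)
    rw [hcard, hne] at hsplit
    omega

theorem shape_of_fixed {d : U} (hd : d ∈ DU) (h : ∀ p ∈ Pt, CommZ p d) :
    ∃ a b : F4, a ≠ 0 ∧ b ≠ 0 ∧ mat d = Matrix.diagonal fun i => if i.val < 3 then a else b := by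
  have hd' := mem_DU.mp hd
  have hone : ∏ _i : Fin 6, (1 : F4) = 1 := by simp
  have hs1 : s1 ∈ P9 := mem_P9.mpr ⟨rfl, by decide +kernel⟩
  have hs2 : s2 ∈ P9 := mem_P9.mpr ⟨by decide +kernel, rfl⟩
  have f1 := fix_of_comm (monU_isMon s1 _ hone) hd' (h _ (mem_monOver.mpr ⟨s1, hs1, monU_isMon _ _ _⟩))
  have f2 := fix_of_comm (monU_isMon s2 _ hone) hd' (h _ (mem_monOver.mpr ⟨s2, hs2, monU_isMon _ _ _⟩))
  have hp : ∏ i, mat d i i = 1 := by simpa using hd'.prod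
  obtain ⟨e1, e2, e4, e5⟩ := fix_two _ hp f1 f2
  refine ⟨mat d 0 0, mat d 3 3, by simpa using hd'.ne 0, by simpa using hd'.ne 3, ?_⟩
  rw [← diagM_eq]
  conv_lhs => rw [hd'.eq]
  congr 1
  funext i
  fin_cases i <;> simp [e1, e2, e4, e5]

end CfsgLib.SUSixFourThree
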